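import Cfsg.Agent.H854.ClassBasic
set_option linter.all false

/-!
# The 2-radical of a 3-transposition group: a criterion for being elementary abelian
-/

set_option autoImplicit false
set_option linter.unusedSectionVars false

namespace Cfsg.Agent.H854.Ab

open Subgroup TM ClassBasic
open scoped commutatorElement

variable {G : Type*} [Group G]

/-- the subgroup generated by the members of `D` commuting with `d` -/
def Kd (D : Set G) (d : G) : Subgroup G := closure {e | e ∈ D ∧ d * e = e * d}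

/-- `[V, d]` -/
def Ad (V : Subgroup G) (d : G) : Subgroup G := closure {x | ∃ v ∈ V, x = v * d * v⁻¹ * d⁻¹}

/-- `[V, D]` -/
def W (D : Set G) (V : Subgroup G) : Subgroup G :=
  closure {x | ∃ v ∈ V, ∃ d ∈ D, x = v * d * v⁻¹ * d⁻¹}

theorem eq_bot_of_le_commutator [Finite G] {p : ℕ} [Fact p.Prime] {T V : Subgroup G}
    (hT : IsPGroup p T) (hVT : V ≤ T) (h : V ≤ ⁅V, T⁆) : V = ⊥ := by
  have h1 : ∀ n, V ≤ T.lowerCentralSeries n := by
    intro n
    induction n with
    | zero => exact hVT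
    | succ n ih => exact h.trans (commutator_mono ih le_rfl)
  have := hT.isNilpotent
  obtain ⟨n, hn⟩ := (T.isNilpotent_iff_lowerCentralSeries).mp inferInstance
  exact le_bot_iff.mp (hn ▸ h1 n)

/-- commutators of generators modulo a normal subgroup -/
theorem comm_mod {X : Subgroup G} (hX : X.Normal) {S T : Set G}
    (h : ∀ s ∈ S, ∀ t ∈ T, s * t * s⁻¹ * t⁻¹ ∈ X) : ⁅closure S, closure T⁆ ≤ X := by
  have key : ∀ a b : G, Commute (QuotientGroup.mk' X a) (QuotientGroup.mk' X b) ↔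
      a * b * a⁻¹ * b⁻¹ ∈ X := by
    intro a b
    rw [← commutatorElement_eq_one_iff_commute, ← map_commutatorElement,
      QuotientGroup.mk'_apply, QuotientGroup.eq_one_iff]
    rfl
  rw [commutator_le]
  intro a ha b hb
  change a * b * a⁻¹ * b⁻¹ ∈ X
  rw [← key]
  have h1 : closure S ≤ (centralizer (QuotientGroup.mk' X '' T)).comap (QuotientGroup.mk' X) := by
    rw [closure_le]
    intro s hs
    change QuotientGroup.mk' X s ∈ centralizer (QuotientGroup.mk' X '' T)
    rw [mem_centralizer_iff]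
    rintro _ ⟨t, ht, rfl⟩
    exact ((key s t).2 (h s hs t ht)).symm.eq
  have h2 : closure T ≤ (centralizer {QuotientGroup.mk' X a}).comap (QuotientGroup.mk' X) := by
    rw [closure_le]
    intro t ht
    change QuotientGroup.mk' X t ∈ centralizer {QuotientGroup.mk' X a}
    rw [mem_centralizer_iff]
    rintro _ rfl
    exact ((mem_centralizer_iff.1 (h1 ha)) _ ⟨t, ht, rfl⟩).symm
  exact (mem_centralizer_iff.1 (h2 hb)) _ rfl

variable {D : Set G} {V : Subgroup G}

theorem Kd_comm {d k : G} (hk : k ∈ Kd D d) : k * d = d * k := by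
  have h1 : Kd D d ≤ centralizer {d} := by
    unfold Kd
    rw [closure_le]
    rintro e ⟨_, he⟩
    rw [SetLike.mem_coe, mem_centralizer_iff]
    rintro _ rfl
    exact he
  exact ((mem_centralizer_iff.1 (h1 hk)) _ rfl).symm

section

variable (h : Cls D) (hn : V.Normal) (hV : IsPGroup 2 V)
include h hn hV

theorem gen_comm {d e : G} (hd : d ∈ D) (he : e ∈ D) (hc : d * e = e * d) {v : G} (hv : v ∈ V) :
    (v * d * v⁻¹ * d⁻¹) * e = e * (v * d * v⁻¹ * d⁻¹) := by
  have h1 := commute_conj_of_commute h hn hV hd he hc hv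
  have c1 : Commute (v * d * v⁻¹) e := h1
  have c2 : Commute d⁻¹ e := (show Commute d e from hc).inv_left
  exact (c1.mul_left c2).eq

theorem Ad_comm_elem {d e : G} (hd : d ∈ D) (he : e ∈ D) (hc : d * e = e * d) {a : G}
    (ha : a ∈ Ad V d) : a * e = e * a := by
  have h1 : Ad V d ≤ centralizer {e} := by
    unfold Ad
    rw [closure_le]
    rintro _ ⟨v, hv, rfl⟩
    rw [SetLike.mem_coe, mem_centralizer_iff]
    rintro _ rfl
    exact (gen_comm h hn hV hd he hc hv).symm
  exact ((mem_centralizer_iff.1 (h1 ha)) _ rfl).symm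

theorem Ad_comm {d e : G} (hd : d ∈ D) (he : e ∈ D) (hc : d * e = e * d) {a b : G}
    (ha : a ∈ Ad V d) (hb : b ∈ Ad V e) : a * b = b * a := by
  have h1 : Ad V e ≤ centralizer {a} := by
    unfold Ad
    rw [closure_le]
    rintro _ ⟨w, hw, rfl⟩
    rw [SetLike.mem_coe, mem_centralizer_iff]
    intro y hy
    rw [Set.mem_singleton_iff.1 hy]
    have hwe : w * e * w⁻¹ ∈ D := h.conj w e he
    have hc' : d * (w * e * w⁻¹) = (w * e * w⁻¹) * d :=
      (commute_conj_of_commute h hn hV he hd hc.symm hw).symm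
    have c1 : Commute a (w * e * w⁻¹) := Ad_comm_elem h hn hV hd hwe hc' ha
    have c2 : Commute a e⁻¹ := (show Commute a e from Ad_comm_elem h hn hV hd he hc ha).inv_right
    exact (c1.mul_right c2).eq
  exact (mem_centralizer_iff.1 (h1 hb)) _ rfl

theorem Kd_comm_Ad {d k a : G} (hd : d ∈ D) (hk : k ∈ Kd D d) (ha : a ∈ Ad V d) :
    k * a = a * k := by
  have h1 : Kd D d ≤ centralizer {a} := by
    unfold Kd
    rw [closure_le]
    rintro e ⟨he, hc⟩
    rw [SetLike.mem_coe, mem_centralizer_iff]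
    intro y hy
    rw [Set.mem_singleton_iff.1 hy]
    exact Ad_comm_elem h hn hV hd he hc ha
  exact ((mem_centralizer_iff.1 (h1 hk)) _ rfl).symm

theorem gen_sq {d : G} (hd : d ∈ D) {v : G} (hv : v ∈ V) :
    (v * d * v⁻¹ * d⁻¹) * (v * d * v⁻¹ * d⁻¹) = 1 := by
  have hdd := h.sq d hd
  have h1 := commute_conj_of_commute h hn hV hd hd rfl hv
  have h2 : (v * d * v⁻¹) * (v * d * v⁻¹) = 1 := by
    have : (v * d * v⁻¹) * (v * d * v⁻¹) = v * (d * d) * v⁻¹ := by group
    rw [this, hdd]; group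
  rw [inv_of_sq hdd]
  calc (v * d * v⁻¹ * d) * (v * d * v⁻¹ * d) = (v * d * v⁻¹) * (d * (v * d * v⁻¹)) * d := by
        simp only [mul_assoc]
    _ = (v * d * v⁻¹) * ((v * d * v⁻¹) * d) * d := by rw [← h1]
    _ = ((v * d * v⁻¹) * (v * d * v⁻¹)) * (d * d) := by simp only [mul_assoc]
    _ = 1 := by rw [h2, hdd, one_mul]

theorem Ad_sq {d : G} (hd : d ∈ D) {a : G} (ha : a ∈ Ad V d) : a * a = 1 := by
  have key : ∀ x : G, x ∈ Ad V d → x * x = 1 := by
    intro x hx
    unfold Ad at hx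
    induction hx using closure_induction with
    | mem x hx =>
      obtain ⟨v, hv, rfl⟩ := hx
      exact gen_sq h hn hV hd hv
    | one => rw [one_mul]
    | mul x y hx hy ihx ihy =>
      have hc : x * y = y * x := Ad_comm h hn hV hd hd rfl hx hy
      calc x * y * (x * y) = x * (y * x) * y := by simp only [mul_assoc]
        _ = x * (x * y) * y := by rw [← hc]
        _ = (x * x) * (y * y) := by simp only [mul_assoc]
        _ = 1 := by rw [ihx, ihy, one_mul]
    | inv x hx ih =>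
      rw [← mul_inv_rev, ih, inv_one]
  exact key a ha

end

theorem gen_mem (hn : V.Normal) {v : G} (hv : v ∈ V) (d : G) : v * d * v⁻¹ * d⁻¹ ∈ V :=
  mul_conj_mem hn hv d

theorem Ad_le (hn : V.Normal) (d : G) : Ad V d ≤ V := by
  unfold Ad
  rw [closure_le]
  rintro _ ⟨v, hv, rfl⟩
  exact gen_mem hn hv d

theorem W_le (hn : V.Normal) : W D V ≤ V := by
  unfold W
  rw [closure_le]
  rintro _ ⟨v, hv, d, _, rfl⟩
  exact gen_mem hn hv d

theorem Ad_le_W {d : G} (hd : d ∈ D) : Ad V d ≤ W D V := by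
  unfold Ad W
  apply Subgroup.closure_mono
  rintro _ ⟨v, hv, rfl⟩
  exact ⟨v, hv, d, hd, rfl⟩

theorem mem_W {d v : G} (hd : d ∈ D) (hv : v ∈ V) : v * d * v⁻¹ * d⁻¹ ∈ W D V :=
  subset_closure ⟨v, hv, d, hd, rfl⟩

theorem mem_W' {d v : G} (hd : d ∈ D) (hv : v ∈ V) : d * v * d⁻¹ * v⁻¹ ∈ W D V := by
  have := (W D V).inv_mem (mem_W hd hv)
  have e : (v * d * v⁻¹ * d⁻¹)⁻¹ = d * v * d⁻¹ * v⁻¹ := by group
  rwa [e] at this

theorem mem_Ad' {d v : G} (hv : v ∈ V) : d * v * d⁻¹ * v⁻¹ ∈ Ad V d := by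
  have : v * d * v⁻¹ * d⁻¹ ∈ Ad V d := subset_closure ⟨v, hv, rfl⟩
  have := (Ad V d).inv_mem this
  have e : (v * d * v⁻¹ * d⁻¹)⁻¹ = d * v * d⁻¹ * v⁻¹ := by group
  rwa [e] at this

theorem conj_Ad (hn : V.Normal) {d a : G} (g : G) (ha : a ∈ Ad V d) :
    g * a * g⁻¹ ∈ Ad V (g * d * g⁻¹) := by
  have h1 : Ad V d ≤ (Ad V (g * d * g⁻¹)).comap (MulAut.conj g).toMonoidHom := by
    conv_lhs => unfold Ad
    rw [closure_le]
    rintro _ ⟨v, hv, rfl⟩
    change g * (v * d * v⁻¹ * d⁻¹) * g⁻¹ ∈ Ad V (g * d * g⁻¹)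
    refine subset_closure ⟨g * v * g⁻¹, hn.conj_mem v hv g, ?_⟩
    group
  exact h1 ha

theorem W_normal (h : Cls D) (hn : V.Normal) : (W D V).Normal := by
  constructor
  intro x hx g
  have h1 : W D V ≤ (W D V).comap (MulAut.conj g).toMonoidHom := by
    conv_lhs => unfold W
    rw [closure_le]
    rintro _ ⟨v, hv, d, hd, rfl⟩
    change g * (v * d * v⁻¹ * d⁻¹) * g⁻¹ ∈ W D V
    refine subset_closure ⟨g * v * g⁻¹, hn.conj_mem v hv g, g * d * g⁻¹, h.conj g d hd, ?_⟩
    group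
  exact h1 hx

/-- `[G, V] ≤ W` -/
theorem comm_mem_W (h : Cls D) (hn : V.Normal) {v : G} (hv : v ∈ V) (g : G) :
    g * v * g⁻¹ * v⁻¹ ∈ W D V := by
  have hW := W_normal h hn
  have h1 : ⁅closure D, closure (V : Set G)⁆ ≤ W D V := by
    apply comm_mod hW
    intro d hd v hv
    exact mem_W' hd hv
  apply h1
  apply commutator_mem_commutator
  · rw [h.gen]; exact mem_top g
  · exact subset_closure hv

section Main

variable (h : Cls D) (hn : V.Normal) (hV : IsPGroup 2 V)
  (hP : ∀ d ∈ D, V ≤ Kd D d ⊔ W D V)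

include h hn hV hP

theorem decomp {d : G} (hd : d ∈ D) {v : G} (hv : v ∈ V) :
    ∃ w ∈ W D V, ∃ k ∈ Kd D d, v = w * k := by
  have hW := W_normal h hn
  have h1 := hP d hd hv
  rw [sup_comm, ← SetLike.mem_coe, Subgroup.normal_mul] at h1
  obtain ⟨w, hw, k, hk, e⟩ := Set.mem_mul.1 h1
  exact ⟨w, hw, k, hk, e.symm⟩

theorem Ad_eq {d : G} (hd : d ∈ D) : Ad V d = Ad (W D V) d := by
  apply le_antisymm
  · conv_lhs => unfold Ad
    rw [closure_le]
    rintro _ ⟨v, hv, rfl⟩
    obtain ⟨w, hw, k, hk, rfl⟩ := decomp h hn hV hP hd hv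
    refine subset_closure ⟨w, hw, ?_⟩
    have hc := Kd_comm hk
    calc w * k * d * (w * k)⁻¹ * d⁻¹ = w * (k * d) * k⁻¹ * w⁻¹ * d⁻¹ := by group
      _ = w * (d * k) * k⁻¹ * w⁻¹ * d⁻¹ := by rw [hc]
      _ = w * d * w⁻¹ * d⁻¹ := by group
  · apply Subgroup.closure_mono
    rintro _ ⟨w, hw, rfl⟩
    exact ⟨w, W_le hn hw, rfl⟩

/-- the generators of `W` -/
theorem W_eq : W D V = closure {a | ∃ d ∈ D, a ∈ Ad V d} := by
  apply le_antisymm
  · unfold W
    apply Subgroup.closure_mono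
    rintro _ ⟨v, hv, d, hd, rfl⟩
    exact ⟨d, hd, subset_closure ⟨v, hv, rfl⟩⟩
  · rw [closure_le]
    rintro a ⟨d, hd, ha⟩
    exact Ad_le_W hd ha

variable (hC1 : ∀ d ∈ D, ∀ e ∈ D, d * e ≠ e * d → Kd D d ⊔ Kd D e ⊔ V = ⊤)

include hC1

/-- commutators `[a, b]` with `a ∈ [V,d]`, `b ∈ [V,e]` are central modulo `W₃` -/
theorem claim2 {d e : G} (hd : d ∈ D) (he : e ∈ D) {a b : G} (ha : a ∈ Ad V d) (hb : b ∈ Ad V e)
    (g : G) : g * (a * b * a⁻¹ * b⁻¹) * g⁻¹ * (a * b * a⁻¹ * b⁻¹)⁻¹ ∈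
      ⁅⁅W D V, W D V⁆, W D V⁆ := by
  have hW := W_normal h hn
  have hW2 : (⁅W D V, W D V⁆ : Subgroup G).Normal := commutator_normal _ _
  have hW3 : (⁅⁅W D V, W D V⁆, W D V⁆ : Subgroup G).Normal := commutator_normal _ _
  by_cases hc : d * e = e * d
  · have h1 := Ad_comm h hn hV hd he hc ha hb
    have h2 : a * b * a⁻¹ * b⁻¹ = 1 := by rw [h1]; group
    rw [h2]
    simp
  · obtain ⟨c, hcdef⟩ : ∃ c, c = a * b * a⁻¹ * b⁻¹ := ⟨_, rfl⟩
    rw [← hcdef]
    have haW := Ad_le_W (V := V) hd ha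
    have hbW := Ad_le_W (V := V) he hb
    have haV := Ad_le hn d ha
    have hbV := Ad_le hn e hb
    have hcW2 : c ∈ ⁅W D V, W D V⁆ := by rw [hcdef]; exact commutator_mem_commutator haW hbW
    set X : Subgroup G := ⁅⁅W D V, W D V⁆, W D V⁆ with hX
    set q := QuotientGroup.mk' X with hq
    have key : ∀ x y : G, Commute (q x) (q y) ↔ x * y * x⁻¹ * y⁻¹ ∈ X := by
      intro x y
      rw [← commutatorElement_eq_one_iff_commute, ← map_commutatorElement, hq,
        QuotientGroup.mk'_apply, QuotientGroup.eq_one_iff]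
      rfl
    rw [← key]
    have hw : ∀ w ∈ W D V, Commute (q w) (q c) := by
      intro w hw
      rw [key, hX, commutator_comm]
      exact commutator_mem_commutator hw hcW2
    have hd' : ∀ k ∈ D, d * k = k * d → Commute (q k) (q c) := by
      intro k hk hkd
      obtain ⟨r, hr⟩ : ∃ r, r = k * b * k⁻¹ * b⁻¹ := ⟨_, rfl⟩
      have hrA : r ∈ Ad V k := by rw [hr]; exact mem_Ad' hbV
      have hra : a * r = r * a := Ad_comm h hn hV hd hk hkd ha hrA
      have hka : a * k = k * a := Ad_comm_elem h hn hV hd hk hkd ha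
      have e1 : k * c * k⁻¹ = r * c * r⁻¹ := by
        have e2 : k * b * k⁻¹ = r * b := by rw [hr]; group
        have e3 : k * a * k⁻¹ = a := by rw [← hka]; group
        calc k * c * k⁻¹ = (k * a * k⁻¹) * (k * b * k⁻¹) * (k * a * k⁻¹)⁻¹ * (k * b * k⁻¹)⁻¹ := by
              rw [hcdef]; group
          _ = a * (r * b) * a⁻¹ * (r * b)⁻¹ := by rw [e2, e3]
          _ = (a * r) * b * a⁻¹ * b⁻¹ * r⁻¹ := by group
          _ = (r * a) * b * a⁻¹ * b⁻¹ * r⁻¹ := by rw [hra]
          _ = r * c * r⁻¹ := by rw [hcdef]; group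
      have hrW := hw r (Ad_le_W (V := V) hk hrA)
      have e4 : q k * q c * (q k)⁻¹ = q r * q c * (q r)⁻¹ := by
        rw [← map_inv, ← map_mul, ← map_mul, e1, map_mul, map_mul, map_inv]
      rw [hrW.eq, mul_inv_cancel_right] at e4
      exact mul_inv_eq_iff_eq_mul.1 e4
    have he' : ∀ k ∈ D, e * k = k * e → Commute (q k) (q c) := by
      intro k hk hke
      obtain ⟨r, hr⟩ : ∃ r, r = k * a * k⁻¹ * a⁻¹ := ⟨_, rfl⟩
      have hrA : r ∈ Ad V k := by rw [hr]; exact mem_Ad' haV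
      have hrb : b * r = r * b := Ad_comm h hn hV he hk hke hb hrA
      have hkb : b * k = k * b := Ad_comm_elem h hn hV he hk hke hb
      have hrb' : r⁻¹ * b⁻¹ = b⁻¹ * r⁻¹ := by rw [← mul_inv_rev, hrb, mul_inv_rev]
      have e1 : k * c * k⁻¹ = r * c * r⁻¹ := by
        have e2 : k * a * k⁻¹ = r * a := by rw [hr]; group
        have e3 : k * b * k⁻¹ = b := by rw [← hkb]; group
        calc k * c * k⁻¹ = (k * a * k⁻¹) * (k * b * k⁻¹) * (k * a * k⁻¹)⁻¹ * (k * b * k⁻¹)⁻¹ := by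
              rw [hcdef]; group
          _ = (r * a) * b * (r * a)⁻¹ * b⁻¹ := by rw [e2, e3]
          _ = r * a * b * a⁻¹ * (r⁻¹ * b⁻¹) := by group
          _ = r * a * b * a⁻¹ * (b⁻¹ * r⁻¹) := by rw [hrb']
          _ = r * c * r⁻¹ := by rw [hcdef]; group
      have hrW := hw r (Ad_le_W (V := V) hk hrA)
      have e4 : q k * q c * (q k)⁻¹ = q r * q c * (q r)⁻¹ := by
        rw [← map_inv, ← map_mul, ← map_mul, e1, map_mul, map_mul, map_inv]
      rw [hrW.eq, mul_inv_cancel_right] at e4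
      exact mul_inv_eq_iff_eq_mul.1 e4
    have hall : (⊤ : Subgroup G) ≤ (centralizer {q c}).comap q := by
      have h1 : Kd D d ≤ (centralizer {q c}).comap q := by
        unfold Kd
        rw [closure_le]
        rintro k ⟨hk, hkd⟩
        change q k ∈ centralizer {q c}
        rw [mem_centralizer_iff]
        rintro _ rfl
        exact (hd' k hk hkd).symm
      have h2 : Kd D e ≤ (centralizer {q c}).comap q := by
        unfold Kd
        rw [closure_le]
        rintro k ⟨hk, hke⟩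
        change q k ∈ centralizer {q c}
        rw [mem_centralizer_iff]
        rintro _ rfl
        exact (he' k hk hke).symm
      have h3 : W D V ≤ (centralizer {q c}).comap q := by
        intro w hw'
        change q w ∈ centralizer {q c}
        rw [mem_centralizer_iff]
        rintro _ rfl
        exact (hw w hw').symm
      rw [← hC1 d hd e he hc]
      refine sup_le (sup_le h1 h2) ((hP d hd).trans (sup_le h1 h3))
    have := hall (mem_top g)
    exact ((mem_centralizer_iff.1 this) _ rfl).symm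

theorem top_comm_le : ⁅(⊤ : Subgroup G), ⁅W D V, W D V⁆⁆ ≤ ⁅⁅W D V, W D V⁆, W D V⁆ := by
  have hW := W_normal h hn
  have hW3 : (⁅⁅W D V, W D V⁆, W D V⁆ : Subgroup G).Normal := commutator_normal _ _
  set X : Subgroup G := ⁅⁅W D V, W D V⁆, W D V⁆ with hX
  have hZ : ((center (G ⧸ X)).comap (QuotientGroup.mk' X)).Normal := inferInstance
  have h1 : ⁅W D V, W D V⁆ ≤ (center (G ⧸ X)).comap (QuotientGroup.mk' X) := by
    rw [W_eq h hn hV hP]
    apply comm_mod hZ
    rintro a ⟨d, hd, ha⟩ b ⟨e, he, hb⟩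
    change QuotientGroup.mk' X (a * b * a⁻¹ * b⁻¹) ∈ center (G ⧸ X)
    rw [mem_center_iff]
    intro y
    obtain ⟨g, rfl⟩ := QuotientGroup.mk'_surjective X y
    have h2 := claim2 h hn hV hP hC1 hd he ha hb g
    rw [← hX, ← QuotientGroup.eq_one_iff, ← QuotientGroup.mk'_apply, map_mul, map_mul, map_mul,
      map_inv, map_inv] at h2
    exact mul_inv_eq_iff_eq_mul.1 (mul_inv_eq_one.1 h2)
  rw [commutator_le]
  intro g _ c hc
  have h2 := mem_center_iff.1 (h1 hc) (QuotientGroup.mk' X g)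
  change g * c * g⁻¹ * c⁻¹ ∈ X
  rw [← QuotientGroup.eq_one_iff, ← QuotientGroup.mk'_apply, map_mul, map_mul, map_mul, map_inv,
    map_inv, h2]
  group

variable (hC2 : ∀ d ∈ D, ∀ e ∈ D, d * e ≠ e * d → ∃ x ∈ D, x * d = d * x ∧ x * e = e * x)

include hC2

theorem claim3 : ⁅⁅W D V, W D V⁆, W D V⁆ ≤ ⁅⁅⁅W D V, W D V⁆, W D V⁆, W D V⁆ := by
  have hW := W_normal h hn
  have hW3 : (⁅⁅W D V, W D V⁆, W D V⁆ : Subgroup G).Normal := commutator_normal _ _
  have hW4 : (⁅⁅⁅W D V, W D V⁆, W D V⁆, W D V⁆ : Subgroup G).Normal := commutator_normal _ _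
  set X : Subgroup G := ⁅⁅⁅W D V, W D V⁆, W D V⁆, W D V⁆ with hX
  set q := QuotientGroup.mk' X with hq
  have key : ∀ x y : G, Commute (q x) (q y) ↔ x * y * x⁻¹ * y⁻¹ ∈ X := by
    intro x y
    rw [← commutatorElement_eq_one_iff_commute, ← map_commutatorElement, hq,
      QuotientGroup.mk'_apply, QuotientGroup.eq_one_iff]
    rfl
  -- the centraliser of `W` modulo `X`
  have hY : ((centralizer (((W D V).map q : Subgroup (G ⧸ X)) : Set (G ⧸ X))).comap q).Normal := by
    have h1 : ((W D V).map q).Normal := hW.map q (QuotientGroup.mk'_surjective X)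
    exact inferInstance
  have h1 : ⁅W D V, W D V⁆ ≤
      (centralizer (((W D V).map q : Subgroup (G ⧸ X)) : Set (G ⧸ X))).comap q := by
    conv_lhs => rw [W_eq h hn hV hP]
    apply comm_mod hY
    rintro a ⟨d, hd, ha⟩ b ⟨e, he, hb⟩
    obtain ⟨c, hcdef⟩ : ∃ c, c = a * b * a⁻¹ * b⁻¹ := ⟨_, rfl⟩
    rw [← hcdef]
    change q c ∈ centralizer _
    by_cases hc : d * e = e * d
    · have h1 := Ad_comm h hn hV hd he hc ha hb
      have h2 : c = 1 := by rw [hcdef, h1]; group
      rw [h2, map_one]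
      exact one_mem _
    · obtain ⟨x', hx', hx'd, hx'e⟩ := hC2 d hd e he hc
      have hmain : ∀ x ∈ D, ∀ w ∈ Ad V x, Commute (q c) (q w) := by
        intro x hx w hw
        obtain ⟨g, hg⟩ := h.trans x' hx' x hx
        -- w = g w' g⁻¹
        obtain ⟨w', hw'⟩ : ∃ w', w' = g⁻¹ * w * g := ⟨_, rfl⟩
        have hw'A : w' ∈ Ad V x' := by
          have := conj_Ad hn g⁻¹ hw
          rw [inv_inv] at this
          have e1 : g⁻¹ * x * g = x' := by rw [← hg]; group
          rwa [e1, ← hw'] at this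
        have caw : Commute a w' := Ad_comm h hn hV hd hx' hx'd.symm ha hw'A
        have cbw : Commute b w' := Ad_comm h hn hV he hx' hx'e.symm hb hw'A
        have ccw : Commute c w' := by
          rw [hcdef]
          exact ((caw.mul_left cbw).mul_left caw.inv_left).mul_left cbw.inv_left
        obtain ⟨r, hr⟩ : ∃ r, r = g⁻¹ * c * g * c⁻¹ := ⟨_, rfl⟩
        have hr3 : r ∈ ⁅⁅W D V, W D V⁆, W D V⁆ := by
          have := claim2 h hn hV hP hC1 hd he ha hb g⁻¹
          rw [← hcdef, inv_inv, ← hr] at this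
          exact this
        have crw : Commute (q r) (q w') := by
          rw [key, hX]
          exact commutator_mem_commutator hr3 (Ad_le_W (V := V) hx' hw'A)
        have e1 : g⁻¹ * c * g = r * c := by rw [hr]; group
        have c1 : Commute (q (g⁻¹ * c * g)) (q w') := by
          rw [e1, map_mul]
          exact crw.mul_left (ccw.map q)
        have c2 : Commute (q g * q (g⁻¹ * c * g) * (q g)⁻¹) (q g * q w' * (q g)⁻¹) := by
          have := c1.map (MulAut.conj (q g)).toMonoidHom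
          simpa using this
        have e2 : q g * q (g⁻¹ * c * g) * (q g)⁻¹ = q c := by
          rw [← map_inv, ← map_mul, ← map_mul]; congr 1; group
        have e3 : q g * q w' * (q g)⁻¹ = q w := by
          rw [← map_inv, ← map_mul, ← map_mul, hw']; congr 1; group
        rwa [e2, e3] at c2
      have h3 : W D V ≤ (centralizer {q c}).comap q := by
        rw [W_eq h hn hV hP, closure_le]
        rintro w ⟨x, hx, hw⟩
        change q w ∈ centralizer {q c}
        rw [mem_centralizer_iff]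
        rintro _ rfl
        exact (hmain x hx w hw).eq
      rw [mem_centralizer_iff]
      rintro _ ⟨w, hw, rfl⟩
      exact ((mem_centralizer_iff.1 (h3 hw)) _ rfl).symm
  rw [commutator_le]
  intro c hc w hw
  change c * w * c⁻¹ * w⁻¹ ∈ X
  rw [← key]
  exact ((mem_centralizer_iff.1 (h1 hc)) _ ⟨w, hw, rfl⟩).symm

variable [Finite G] (hZ : center G = ⊥)

include hZ

theorem W_comm {a b : G} (ha : a ∈ W D V) (hb : b ∈ W D V) : a * b = b * a := by
  have hW := W_normal h hn
  have hWp : IsPGroup 2 (W D V) := hV.to_le (W_le hn)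
  have : Fact (Nat.Prime 2) := ⟨Nat.prime_two⟩
  have h1 : ⁅⁅W D V, W D V⁆, W D V⁆ = ⊥ :=
    eq_bot_of_le_commutator hWp (commutator_le_right _ _) (claim3 h hn hV hP hC1 hC2)
  have h2 := top_comm_le h hn hV hP hC1
  rw [h1, le_bot_iff] at h2
  have h3 : ⁅W D V, W D V⁆ ≤ center G := by
    intro c hc
    rw [mem_center_iff]
    intro g
    have h4 : ⁅g, c⁆ ∈ (⊥ : Subgroup G) := by
      rw [← h2]; exact commutator_mem_commutator (mem_top g) hc
    exact commutatorElement_eq_one_iff_mul_comm.1 (mem_bot.1 h4)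
  rw [hZ, le_bot_iff] at h3
  have h4 : ⁅a, b⁆ ∈ (⊥ : Subgroup G) := by
    rw [← h3]; exact commutator_mem_commutator ha hb
  exact commutatorElement_eq_one_iff_mul_comm.1 (mem_bot.1 h4)

theorem V_comm_W {v w : G} (hv : v ∈ V) (hw : w ∈ W D V) : v * w = w * v := by
  have h1 : W D V ≤ centralizer {v} := by
    rw [W_eq h hn hV hP, closure_le]
    rintro a ⟨d, hd, ha⟩
    rw [SetLike.mem_coe, mem_centralizer_iff]
    rintro _ rfl
    obtain ⟨w, hw, k, hk, rfl⟩ := decomp h hn hV hP hd hv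
    have c1 : Commute w a := W_comm h hn hV hP hC1 hC2 hZ hw (Ad_le_W (V := V) hd ha)
    have c2 : Commute k a := Kd_comm_Ad h hn hV hd hk ha
    exact (c1.mul_left c2).eq
  exact (mem_centralizer_iff.1 (h1 hw)) _ rfl

theorem comm {x y : G} (hx : x ∈ V) (hy : y ∈ V) : x * y = y * x := by
  have key : x * y * x⁻¹ * y⁻¹ ∈ center G := by
    rw [mem_center_iff]
    intro g
    have h1 : closure D ≤ centralizer {x * y * x⁻¹ * y⁻¹} := by
      rw [closure_le]
      intro d hd
      rw [SetLike.mem_coe, mem_centralizer_iff]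
      rintro _ rfl
      obtain ⟨r, hr⟩ : ∃ r, r = d * x * d⁻¹ * x⁻¹ := ⟨_, rfl⟩
      obtain ⟨s, hs⟩ : ∃ s, s = d * y * d⁻¹ * y⁻¹ := ⟨_, rfl⟩
      have hrW : r ∈ W D V := by rw [hr]; exact mem_W' hd hx
      have hsW : s ∈ W D V := by rw [hs]; exact mem_W' hd hy
      have crx : Commute x r := V_comm_W h hn hV hP hC1 hC2 hZ hx hrW
      have cry : Commute y r := V_comm_W h hn hV hP hC1 hC2 hZ hy hrW
      have csx : Commute x s := V_comm_W h hn hV hP hC1 hC2 hZ hx hsW
      have csy : Commute y s := V_comm_W h hn hV hP hC1 hC2 hZ hy hsW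
      have crs : Commute r s := W_comm h hn hV hP hC1 hC2 hZ hrW hsW
      have e1 : d * x * d⁻¹ = r * x := by rw [hr]; group
      have e2 : d * y * d⁻¹ = s * y := by rw [hs]; group
      have e3 : d * (x * y * x⁻¹ * y⁻¹) * d⁻¹ = x * y * x⁻¹ * y⁻¹ := by
        calc d * (x * y * x⁻¹ * y⁻¹) * d⁻¹ =
            (d * x * d⁻¹) * (d * y * d⁻¹) * (d * x * d⁻¹)⁻¹ * (d * y * d⁻¹)⁻¹ := by group
          _ = (r * x) * (s * y) * (r * x)⁻¹ * (s * y)⁻¹ := by rw [e1, e2]
          _ = r * (x * s) * y * x⁻¹ * r⁻¹ * y⁻¹ * s⁻¹ := by group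
          _ = r * (s * x) * y * x⁻¹ * r⁻¹ * y⁻¹ * s⁻¹ := by rw [csx.eq]
          _ = (r * s) * x * y * x⁻¹ * (r⁻¹ * y⁻¹) * s⁻¹ := by group
          _ = (s * r) * x * y * x⁻¹ * (y⁻¹ * r⁻¹) * s⁻¹ := by
              rw [crs.eq, (cry.inv_inv).eq]
          _ = s * (r * (x * y * x⁻¹ * y⁻¹)) * r⁻¹ * s⁻¹ := by group
          _ = s * ((x * y * x⁻¹ * y⁻¹) * r) * r⁻¹ * s⁻¹ := by
              rw [(((crx.mul_left cry).mul_left crx.inv_left).mul_left cry.inv_left).eq]
          _ = s * (x * y * x⁻¹ * y⁻¹) * s⁻¹ := by group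
          _ = (x * y * x⁻¹ * y⁻¹) * s * s⁻¹ := by
              rw [(((csx.mul_left csy).mul_left csx.inv_left).mul_left csy.inv_left).eq]
          _ = x * y * x⁻¹ * y⁻¹ := by group
      exact (mul_inv_eq_iff_eq_mul.1 e3).symm
    have := h1 (by rw [h.gen]; exact mem_top g)
    exact ((mem_centralizer_iff.1 this) _ rfl).symm
  rw [hZ, mem_bot] at key
  exact commutatorElement_eq_one_iff_mul_comm.1 key

theorem sq {x : G} (hx : x ∈ V) : x * x = 1 := by
  have key : x * x ∈ center G := by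
    rw [mem_center_iff]
    intro g
    have h1 : closure D ≤ centralizer {x * x} := by
      rw [closure_le]
      intro d hd
      rw [SetLike.mem_coe, mem_centralizer_iff]
      rintro _ rfl
      obtain ⟨r, hr⟩ : ∃ r, r = d * x * d⁻¹ * x⁻¹ := ⟨_, rfl⟩
      have hrA : r ∈ Ad V d := by rw [hr]; exact mem_Ad' hx
      have hrr := Ad_sq h hn hV hd hrA
      have crx := comm h hn hV hP hC1 hC2 hZ hx (Ad_le hn d hrA)
      have e1 : d * x * d⁻¹ = r * x := by rw [hr]; group
      have e3 : d * (x * x) * d⁻¹ = x * x := by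
        calc d * (x * x) * d⁻¹ = (d * x * d⁻¹) * (d * x * d⁻¹) := by group
          _ = r * (x * r) * x := by rw [e1]; group
          _ = r * (r * x) * x := by rw [crx]
          _ = (r * r) * (x * x) := by group
          _ = x * x := by rw [hrr, one_mul]
      exact (mul_inv_eq_iff_eq_mul.1 e3).symm
    have := h1 (by rw [h.gen]; exact mem_top g)
    exact ((mem_centralizer_iff.1 this) _ rfl).symm
  rw [hZ, mem_bot] at key
  exact key

end Main

end Cfsg.Agent.H854.Ab
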