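import Cfsg.Agent.H854.UForm
set_option linter.all false

/-!
# The unitary group in dimension three over the field with four elements
-/

set_option autoImplicit false
set_option linter.unusedSectionVars false

namespace Cfsg.Agent.H854.U3

open Cfsg Cfsg.Agent.LieClassical.HermBasic Cfsg.Agent.ClassicalGeometry.UnitTransv
open Cfsg.Agent.SporadicStructure.UnitTwo Cfsg.Agent.H854.UForm
open scoped Matrix

variable {F : Type*} [Field F] [Fintype F] (hF : Fintype.card F = 2 ^ 2)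
include hF

theorem herm3 (v w : Fin 3 → F) :
    hermForm 3 F 2 v w = v 0 * w 0 ^ 2 + v 1 * w 1 ^ 2 + v 2 * w 2 ^ 2 := by
  rw [herm_def, Fin.sum_univ_three]

theorem ext3 {v w : Fin 3 → F} (h0 : v 0 = w 0) (h1 : v 1 = w 1) (h2 : v 2 = w 2) : v = w := by
  funext i
  fin_cases i <;> assumption

theorem ne_zero_of_cube {x : F} (h : x ^ 3 = 1) : x ≠ 0 := by
  rintro rfl
  simp at h

/-- nonzero isotropic vectors have exactly one zero coordinate -/
theorem shape {v : Fin 3 → F} (hv : hermForm 3 F 2 v v = 0) (h0 : v ≠ 0) :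
    (v 0 = 0 ∧ v 1 ^ 3 = 1 ∧ v 2 ^ 3 = 1) ∨ (v 1 = 0 ∧ v 0 ^ 3 = 1 ∧ v 2 ^ 3 = 1) ∨
      (v 2 = 0 ∧ v 0 ^ 3 = 1 ∧ v 1 ^ 3 = 1) := by
  have h2 := two_eq_zero hF
  have h10 : (1 : F) ≠ 0 := one_ne_zero
  rw [herm3 hF] at hv
  have hv' : v 0 ^ 3 + v 1 ^ 3 + v 2 ^ 3 = 0 := by linear_combination hv
  rcases zero_or_cube hF (v 0) with a | a <;> rcases zero_or_cube hF (v 1) with b | b <;>
    rcases zero_or_cube hF (v 2) with c | c
  · exact absurd (ext3 hF (by simpa using a) (by simpa using b) (by simpa using c)) h0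
  · exfalso; rw [a, b, c] at hv'; simp at hv'
  · exfalso; rw [a, b, c] at hv'; simp at hv'
  · exact Or.inl ⟨a, b, c⟩
  · exfalso; rw [a, b, c] at hv'; simp at hv'
  · exact Or.inr (Or.inl ⟨b, a, c⟩)
  · exact Or.inr (Or.inr ⟨c, a, b⟩)
  · exfalso
    rw [a, b, c] at hv'
    apply h10
    linear_combination hv' - h2

/-- orthogonal isotropic vectors are proportional in dimension three -/
theorem parallel {v w : Fin 3 → F} (hv : hermForm 3 F 2 v v = 0) (hw : hermForm 3 F 2 w w = 0)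
    (hv0 : v ≠ 0) (hw0 : w ≠ 0) (h : hermForm 3 F 2 v w = 0) : ∃ c : F, c ≠ 0 ∧ w = c • v := by
  have h2 := two_eq_zero hF
  have key : ∀ a b c d : F, a ^ 3 = 1 → b ^ 3 = 1 → c ^ 3 = 1 → d ^ 3 = 1 →
      a * c ^ 2 + b * d ^ 2 = 0 → (c * a ^ 2) * a = c ∧ (c * a ^ 2) * b = d := by
    intro a b c d ha hb hc hd hh
    refine ⟨by linear_combination c * ha, ?_⟩
    have h3 : a * c ^ 2 = b * d ^ 2 := by linear_combination hh - b * d ^ 2 * h2
    have h4 : a * d = b * c := by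
      linear_combination c * d * h3 - a * d * hc + b * c * hd
    linear_combination d * ha - a ^ 2 * h4
  have bad : ∀ a b : F, a ^ 3 = 1 → b ^ 3 = 1 → a * b ^ 2 ≠ 0 := fun a b ha hb =>
    mul_ne_zero (ne_zero_of_cube hF ha) (pow_ne_zero _ (ne_zero_of_cube hF hb))
  rw [herm3 hF] at h
  rcases shape hF hv hv0 with ⟨a, b, c⟩ | ⟨a, b, c⟩ | ⟨a, b, c⟩ <;>
    rcases shape hF hw hw0 with ⟨a', b', c'⟩ | ⟨a', b', c'⟩ | ⟨a', b', c'⟩
  · rw [a, a'] at h
    obtain ⟨k1, k2⟩ := key _ _ _ _ b c b' c' (by linear_combination h)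
    refine ⟨w 1 * v 1 ^ 2, mul_ne_zero (ne_zero_of_cube hF b') (pow_ne_zero _ (ne_zero_of_cube hF b)), ?_⟩
    apply ext3 hF
    · simp [a, a']
    · simp only [Pi.smul_apply, smul_eq_mul]; exact k1.symm
    · simp only [Pi.smul_apply, smul_eq_mul]; exact k2.symm
  · exfalso; rw [a, a'] at h; exact bad _ _ c c' (by linear_combination h)
  · exfalso; rw [a, a'] at h; exact bad _ _ b c' (by linear_combination h)
  · exfalso; rw [a, a'] at h; exact bad _ _ c c' (by linear_combination h)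
  · rw [a, a'] at h
    obtain ⟨k1, k2⟩ := key _ _ _ _ b c b' c' (by linear_combination h)
    refine ⟨w 0 * v 0 ^ 2, mul_ne_zero (ne_zero_of_cube hF b') (pow_ne_zero _ (ne_zero_of_cube hF b)), ?_⟩
    apply ext3 hF
    · simp only [Pi.smul_apply, smul_eq_mul]; exact k1.symm
    · simp [a, a']
    · simp only [Pi.smul_apply, smul_eq_mul]; exact k2.symm
  · exfalso; rw [a, a'] at h; exact bad _ _ b b' (by linear_combination h)
  · exfalso; rw [a, a'] at h; exact bad _ _ c b' (by linear_combination h)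
  · exfalso; rw [a, a'] at h; exact bad _ _ b b' (by linear_combination h)
  · rw [a, a'] at h
    obtain ⟨k1, k2⟩ := key _ _ _ _ b c b' c' (by linear_combination h)
    refine ⟨w 0 * v 0 ^ 2, mul_ne_zero (ne_zero_of_cube hF b') (pow_ne_zero _ (ne_zero_of_cube hF b)), ?_⟩
    apply ext3 hF
    · simp only [Pi.smul_apply, smul_eq_mul]; exact k1.symm
    · simp only [Pi.smul_apply, smul_eq_mul]; exact k2.symm
    · simp [a, a']

/-- every involution is a transvection -/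
theorem involution (t : SU 3 F 2) (ht : t * t = 1) (ht1 : t ≠ 1) :
    ∃ (v : Fin 3 → F) (hv : hermForm 3 F 2 v v = 0), v ≠ 0 ∧ t = T hF v hv := by
  obtain ⟨x, hx, hs⟩ := exists_vec hF t ht ht1
  obtain ⟨r1, r2, r3⟩ := reduce hF t ht hx hs
  have hs0 : act t x + x ≠ 0 := by
    intro h
    rw [h, herm_zero_right hF] at hx
    exact zero_ne_one hx
  refine ⟨act t x + x, hs, hs0, ?_⟩
  generalize hsd : act t x + x = s at *
  by_cases h1 : T hF s hs * t = 1
  · have := eq_inv_of_mul_eq_one_right h1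
    rw [this, T_inv]
  · exfalso
    obtain ⟨y, hy, hs'⟩ := exists_vec hF _ r1 h1
    have e1 : hermForm 3 F 2 (act (T hF s hs * t) y + y) x = 0 := by
      rw [sym hF _ r1, r2, vadd_self hF, herm_zero_right hF]
    have e2 : hermForm 3 F 2 (act (T hF s hs * t) y + y) s = 0 := by
      rw [sym hF _ r1, r3, vadd_self hF, herm_zero_right hF]
    have hs0' : act (T hF s hs * t) y + y ≠ 0 := by
      intro h
      rw [h, herm_zero_right hF] at hy
      exact zero_ne_one hy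
    obtain ⟨c, hc, h3⟩ := parallel hF hs' hs hs0' hs0 e2
    rw [h3, herm_smul_right] at hx
    rw [herm_eq_zero_swap hF e1, mul_zero] at hx
    exact zero_ne_one hx

/-- three transvections generate -/
theorem generate {ω : F} (hω : ω ^ 2 + ω + 1 = 0) (L : Subgroup (SU 3 F 2))
    (ha : ∀ h, T hF (![1, 1, 0] : Fin 3 → F) h ∈ L) (hb : ∀ h, T hF (![1, ω, 0] : Fin 3 → F) h ∈ L)
    (hc : ∀ h, T hF (![0, 1, 1] : Fin 3 → F) h ∈ L) (v : Fin 3 → F)
    (hv : hermForm 3 F 2 v v = 0) (hv0 : v ≠ 0) : T hF v hv ∈ L := by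
  have h2 := two_eq_zero hF
  have hω3 : ω ^ 3 = 1 := by linear_combination (ω - 1) * hω
  have hω0 : ω ≠ 0 := ne_zero_of_cube hF hω3
  set P : (Fin 3 → F) → Prop := fun v => ∀ h, T hF v h ∈ L with hP
  have hstep : ∀ (u v w : Fin 3 → F) (c : F), hermForm 3 F 2 u u = 0 → hermForm 3 F 2 v v = 0 →
      c ≠ 0 → P u → P v → w = c • (v + hermForm 3 F 2 v u • u) → P w := by
    intro u v w c hu hv hc hPu hPv hw h
    subst hw
    have e1 : act (T hF u hu) v = v + hermForm 3 F 2 v u • u := act_T hF u hu v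
    have h' : hermForm 3 F 2 (act (T hF u hu) v) (act (T hF u hu) v) = 0 := by rw [herm_act, hv]
    have h'' : hermForm 3 F 2 (v + hermForm 3 F 2 v u • u) (v + hermForm 3 F 2 v u • u) = 0 := by
      rw [← e1]; exact h'
    have e2 := conj_T hF (T hF u hu) v hv h'
    have e3 : T hF (v + hermForm 3 F 2 v u • u) h'' = T hF (act (T hF u hu) v) h' :=
      T_congr hF e1.symm _ _
    rw [T_smul hF c hc _ h'' h, e3, ← e2]
    exact L.mul_mem (L.mul_mem (hPu hu) (hPv hv)) (L.inv_mem (hPu hu))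
  have iso0 : ∀ x y : F, x ^ 3 = 1 → y ^ 3 = 1 → hermForm 3 F 2 ![0, x, y] ![0, x, y] = 0 := by
    intro x y hx hy; rw [herm3 hF]; simp; linear_combination hx + hy + h2
  have iso1 : ∀ x y : F, x ^ 3 = 1 → y ^ 3 = 1 → hermForm 3 F 2 ![x, 0, y] ![x, 0, y] = 0 := by
    intro x y hx hy; rw [herm3 hF]; simp; linear_combination hx + hy + h2
  have iso2 : ∀ x y : F, x ^ 3 = 1 → y ^ 3 = 1 → hermForm 3 F 2 ![x, y, 0] ![x, y, 0] = 0 := by
    intro x y hx hy; rw [herm3 hF]; simp; linear_combination hx + hy + h2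
  have one3 : (1 : F) ^ 3 = 1 := one_pow 3
  have hω6 : (ω ^ 2) ^ 3 = 1 := by linear_combination (ω ^ 3 + 1) * hω3
  have hω20 := pow_ne_zero 2 hω0
  -- all (1, λ, 0)
  have p1 : P ![1, ω ^ 2, 0] := by
    apply hstep ![1, 1, 0] ![1, ω, 0] _ (ω ^ 2) (iso2 1 1 one3 one3) (iso2 1 ω one3 hω3) hω20 ha hb
    rw [herm3 hF]
    apply ext3 hF <;> simp <;> grind
  have q0 : P ![1, 0, 1] := by
    apply hstep ![1, 1, 0] ![0, 1, 1] _ 1 (iso2 1 1 one3 one3) (iso0 1 1 one3 one3) one_ne_zero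
      ha hc
    rw [herm3 hF]
    apply ext3 hF <;> simp <;> grind
  have q1 : P ![1, 0, ω] := by
    apply hstep ![1, ω, 0] ![0, 1, 1] _ ω (iso2 1 ω one3 hω3) (iso0 1 1 one3 one3) hω0
      hb hc
    rw [herm3 hF]
    apply ext3 hF <;> simp <;> grind
  have q2 : P ![1, 0, ω ^ 2] := by
    apply hstep ![1, ω ^ 2, 0] ![0, 1, 1] _ (ω ^ 2) (iso2 1 _ one3 hω6) (iso0 1 1 one3 one3) hω20
      p1 hc
    rw [herm3 hF]
    apply ext3 hF <;> simp <;> grind
  have pall : ∀ x : F, x ^ 3 = 1 → P ![1, x, 0] ∧ P ![1, 0, x] := by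
    intro x hx
    have h3 : x = 1 ∨ x = ω ∨ x = ω ^ 2 := by
      have h4 : (x - 1) * ((x - ω) * (x - ω ^ 2)) = 0 := by
        have : (x - 1) * ((x - ω) * (x - ω ^ 2)) = x ^ 3 - 1 := by grind
        rw [this, hx, sub_self]
      rcases mul_eq_zero.1 h4 with h5 | h5
      · exact Or.inl (sub_eq_zero.1 h5)
      · rcases mul_eq_zero.1 h5 with h6 | h6
        · exact Or.inr (Or.inl (sub_eq_zero.1 h6))
        · exact Or.inr (Or.inr (sub_eq_zero.1 h6))
    rcases h3 with rfl | rfl | rfl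
    · exact ⟨ha, q0⟩
    · exact ⟨hb, q1⟩
    · exact ⟨p1, q2⟩
  have rall : ∀ x : F, x ^ 3 = 1 → P ![0, 1, x] := by
    intro x hx
    apply hstep ![1, 1, 0] ![1, 0, x] _ 1 (iso2 1 1 one3 one3) (iso1 1 x one3 hx) one_ne_zero
      ha (pall x hx).2
    rw [herm3 hF]
    apply ext3 hF <;> simp <;> grind
  have hsmul : ∀ (c : F) (v w : Fin 3 → F), c ≠ 0 → hermForm 3 F 2 v v = 0 → P v →
      w = c • v → P w := by
    intro c v w hc hv hPv hw h
    subst hw
    rw [T_smul hF c hc v hv h]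
    exact hPv hv
  have hPv : P v := by
    rcases shape hF hv hv0 with ⟨a, b, c⟩ | ⟨a, b, c⟩ | ⟨a, b, c⟩
    · have e1 : (v 2 * v 1 ^ 2) ^ 3 = 1 := by grind
      apply hsmul (v 1) ![0, 1, v 2 * v 1 ^ 2] v (ne_zero_of_cube hF b) (iso0 _ _ one3 e1)
        (rall _ e1)
      apply ext3 hF <;> simp <;> grind
    · have e1 : (v 2 * v 0 ^ 2) ^ 3 = 1 := by grind
      apply hsmul (v 0) ![1, 0, v 2 * v 0 ^ 2] v (ne_zero_of_cube hF b) (iso1 _ _ one3 e1)
        (pall _ e1).2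
      apply ext3 hF <;> simp <;> grind
    · have e1 : (v 1 * v 0 ^ 2) ^ 3 = 1 := by grind
      apply hsmul (v 0) ![1, v 1 * v 0 ^ 2, 0] v (ne_zero_of_cube hF b) (iso2 _ _ one3 e1)
        (pall _ e1).1
      apply ext3 hF <;> simp <;> grind
  exact hPv hv

end Cfsg.Agent.H854.U3
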