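import Cfsg.Agent.SporadicStructure.UnitTwo
set_option linter.all false

/-!
# Unitary transvections over the field with four elements: extra facts
-/

set_option autoImplicit false
set_option linter.unusedSectionVars false

namespace Cfsg.Agent.H854.UForm

open Cfsg Cfsg.Agent.LieClassical.HermBasic Cfsg.Agent.ClassicalGeometry.UnitTransv
open Cfsg.Agent.SporadicStructure.UnitTwo
open scoped Matrix

variable {F : Type*} [Field F] [Fintype F] {n : ℕ} (hF : Fintype.card F = 2 ^ 2)
include hF

/-- the displacement operator of an involution is self-adjoint -/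
theorem sym (t : SU n F 2) (ht : t * t = 1) (y z : Fin n → F) :
    hermForm n F 2 (act t y + y) z = hermForm n F 2 y (act t z + z) := by
  rw [herm_add_left, herm_add_right hF]
  congr 1
  rw [← herm_act t (act t y) z, ← act_mul, ht, act_one]

/-- an involution has a vector `x` with `h(x, tx + x) = 1` -/
theorem exists_vec (t : SU n F 2) (ht : t * t = 1) (ht1 : t ≠ 1) :
    ∃ x : Fin n → F, hermForm n F 2 x (act t x + x) = 1 ∧
      hermForm n F 2 (act t x + x) (act t x + x) = 0 := by
  obtain ⟨ω, hω⟩ := exists_omega hF
  have h2 := two_eq_zero hF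
  have hB2 : ∀ x z : Fin n → F, hermForm n F 2 z (act t x + x) =
      (hermForm n F 2 x (act t z + z)) ^ 2 := by
    intro x z
    rw [← sym hF t ht z x, herm_swap hF x]
  have hiso : ∀ x : Fin n → F, hermForm n F 2 (act t x + x) (act t x + x) = 0 := by
    intro x
    rw [sym hF t ht]
    have : act t (act t x + x) + (act t x + x) = 0 := by
      rw [act_add, ← act_mul, ht, act_one]
      have h3 := vadd_self hF (act t x + x)
      rw [← h3]; abel
    rw [this, herm_zero_right hF]
  have hex : ∃ x : Fin n → F, hermForm n F 2 x (act t x + x) ≠ 0 := by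
    by_contra hno
    push Not at hno
    have key : ∀ x z : Fin n → F, hermForm n F 2 x (act t z + z) =
        (hermForm n F 2 x (act t z + z)) ^ 2 := by
      intro x z
      have h3 := hno (x + z)
      have e : act t (x + z) + (x + z) = (act t x + x) + (act t z + z) := by
        rw [act_add]; abel
      rw [e] at h3
      have hx := hno x
      have hz := hno z
      have hB := hB2 x z
      generalize act t x + x = a at *
      generalize act t z + z = b at *
      rw [herm_add_left, herm_add_right hF, herm_add_right hF, hx, hz, hB] at h3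
      linear_combination h3 - (hermForm n F 2 x b) ^ 2 * h2
    have key2 : ∀ x z : Fin n → F, hermForm n F 2 x (act t z + z) = 0 := by
      intro x z
      have h3 := key x z
      have h4 := key (ω • x) z
      rw [herm_smul_left] at h4
      linear_combination h4 + hermForm n F 2 x (act t z + z) * hω - ω * hermForm n F 2 x (act t z + z) * h2
        - ω ^ 2 * h3
    apply ht1
    apply ext_act
    intro z
    rw [act_one]
    have h5 : act t z + z = 0 := by
      apply herm_nondeg hF
      intro v
      apply herm_eq_zero_swap hF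
      exact key2 v z
    have h6 : act t z = -z := eq_neg_of_add_eq_zero_left h5
    rw [h6]
    funext i
    exact neg_eq hF (z i)
  obtain ⟨x, hx⟩ := hex
  refine ⟨x, ?_, hiso x⟩
  have h3 := hB2 x x
  rcases zero_or_one_of_fixed hF h3.symm with h4 | h4
  · exact absurd h4 hx
  · exact h4

/-- removing a transvection from an involution -/
theorem reduce (t : SU n F 2) (ht : t * t = 1) {x : Fin n → F}
    (hx : hermForm n F 2 x (act t x + x) = 1)
    (hs : hermForm n F 2 (act t x + x) (act t x + x) = 0) :
    (T hF _ hs * t) * (T hF _ hs * t) = 1 ∧ act (T hF _ hs * t) x = x ∧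
      act (T hF _ hs * t) (act t x + x) = act t x + x := by
  have hts : act t (act t x + x) = act t x + x := by
    rw [act_add, ← act_mul, ht, act_one, add_comm]
  have h1 : act (T hF _ hs * t) x = x := by
    rw [act_mul, act_T]
    have h2 : hermForm n F 2 (act t x) (act t x + x) = 1 := by
      have h3 : hermForm n F 2 (act t x + x) (act t x + x) =
          hermForm n F 2 (act t x) (act t x + x) + hermForm n F 2 x (act t x + x) :=
        herm_add_left _ _ _
      rw [hs, hx] at h3
      linear_combination -h3 - two_eq_zero hF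
    rw [h2, one_smul, ← add_assoc, vadd_self hF, zero_add]
  have h2 : act (T hF _ hs * t) (act t x + x) = act t x + x := by
    rw [act_mul, hts, act_T_of_perp hF _ hs _ hs]
  refine ⟨?_, h1, h2⟩
  have hc : t * T hF _ hs = T hF _ hs * t := by
    have h3 := conj_T hF t _ hs (by rw [herm_act]; exact hs)
    rw [mul_inv_eq_iff_eq_mul] at h3
    rw [h3]
    congr 2
  calc (T hF _ hs * t) * (T hF _ hs * t) = T hF _ hs * (t * T hF _ hs) * t := by
        simp only [mul_assoc]
    _ = (T hF _ hs * T hF _ hs) * (t * t) := by rw [hc]; simp only [mul_assoc]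
    _ = 1 := by rw [T_mul_self, ht, one_mul]

theorem T_inv (v : Fin n → F) (hv : hermForm n F 2 v v = 0) : (T hF v hv)⁻¹ = T hF v hv :=
  inv_eq_of_mul_eq_one_left (T_mul_self hF v hv)

theorem T_congr {v w : Fin n → F} (h : v = w) (hv : hermForm n F 2 v v = 0)
    (hw : hermForm n F 2 w w = 0) : T hF v hv = T hF w hw := by
  subst h; rfl

theorem T_ne_one {v : Fin n → F} (hv : hermForm n F 2 v v = 0) (hv0 : v ≠ 0) :
    T hF v hv ≠ 1 := by
  intro h
  obtain ⟨y, hy⟩ := exists_herm_ne_zero hF hv0
  have h1 := act_T hF v hv y
  rw [h, act_one] at h1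
  have h2 : hermForm n F 2 y v • v = 0 := by simpa using h1
  rcases smul_eq_zero.1 h2 with h3 | h3
  · exact hy (herm_eq_zero_swap hF h3)
  · exact hv0 h3

/-- braid relation -/
theorem braid_T {v w : Fin n → F} (hv : hermForm n F 2 v v = 0) (hw : hermForm n F 2 w w = 0)
    (h : hermForm n F 2 v w ≠ 0) :
    T hF v hv * T hF w hw * T hF v hv = T hF w hw * T hF v hv * T hF w hw := by
  obtain ⟨s, hs⟩ : ∃ s, s = hermForm n F 2 v w := ⟨_, rfl⟩
  have hs3 : s ^ 3 = 1 := by rw [hs]; exact pow_three hF h
  have hwv : hermForm n F 2 w v = s ^ 2 := by rw [hs]; exact herm_swap hF v w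
  have hs0 : s ≠ 0 := by rw [hs]; exact h
  have c1 : act (T hF v hv) w = w + s ^ 2 • v := by rw [act_T, hwv]
  have c2 : act (T hF w hw) v = s • (w + s ^ 2 • v) := by
    rw [act_T, ← hs, smul_add, smul_smul]
    have : s * s ^ 2 = 1 := by linear_combination hs3
    rw [this, one_smul, add_comm]
  have z1 : hermForm n F 2 (act (T hF v hv) w) (act (T hF v hv) w) = 0 := by
    rw [herm_act, hw]
  have z2 : hermForm n F 2 (act (T hF w hw) v) (act (T hF w hw) v) = 0 := by
    rw [herm_act, hv]
  have k1 := conj_T hF (T hF v hv) w hw z1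
  have k2 := conj_T hF (T hF w hw) v hv z2
  have z3 : hermForm n F 2 (s • act (T hF v hv) w) (s • act (T hF v hv) w) = 0 := by
    rw [herm_smul_left, herm_smul_right, z1, mul_zero, mul_zero]
  have k3 : T hF (act (T hF w hw) v) z2 = T hF (act (T hF v hv) w) z1 := by
    rw [← T_smul hF s hs0 _ z1 z3]
    exact T_congr hF (by rw [c2, c1]) _ _
  rw [T_inv] at k1 k2
  rw [k1, k2, k3]

/-- transvections with orthogonal centres commute -/
theorem comm_T {v w : Fin n → F} (hv : hermForm n F 2 v v = 0) (hw : hermForm n F 2 w w = 0)
    (h : hermForm n F 2 v w = 0) : T hF v hv * T hF w hw = T hF w hw * T hF v hv := by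
  have h' := herm_eq_zero_swap hF h
  apply ext_act
  intro x
  rw [act_mul, act_mul, act_T, act_T, act_T, act_T, herm_add_left, herm_add_left,
    herm_smul_left, herm_smul_left, h, h', mul_zero, mul_zero, add_zero, add_zero,
    add_right_comm]

/-- transvections with non-orthogonal centres do not commute -/
theorem not_comm_T {v w : Fin n → F} (hv : hermForm n F 2 v v = 0) (hw : hermForm n F 2 w w = 0)
    (h : hermForm n F 2 v w ≠ 0) : T hF v hv * T hF w hw ≠ T hF w hw * T hF v hv := by
  intro hc
  have h1 := congrArg (fun g => act g w) hc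
  simp only [act_mul] at h1
  rw [act_T_of_perp hF w hw w hw, act_T hF v hv w, act_add, act_smul,
    act_T_of_perp hF w hw w hw, act_T hF w hw v, smul_add, smul_smul] at h1
  have h2 : (hermForm n F 2 w v * hermForm n F 2 v w) • w = 0 := by
    have h3 : w + hermForm n F 2 w v • v + 0 = w + hermForm n F 2 w v • v +
        (hermForm n F 2 w v * hermForm n F 2 v w) • w := by
      rw [add_zero]
      nth_rewrite 1 [h1]
      rw [add_assoc]
    exact (add_left_cancel h3).symm
  rcases smul_eq_zero.1 h2 with h3 | h3
  · rcases mul_eq_zero.1 h3 with h4 | h4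
    · exact h (herm_eq_zero_swap hF h4)
    · exact h h4
  · rw [h3, herm_zero_right hF] at h
    exact h rfl

theorem zero_or_cube (x : F) : x = 0 ∨ x ^ 3 = 1 := by
  by_cases h : x = 0
  · exact Or.inl h
  · exact Or.inr (pow_three hF h)

end Cfsg.Agent.H854.UForm
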