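import Cfsg.Agent.H854.UForm
set_option linter.all false

-- part: H854/UGeo
section
/-!
# Geometry of the hermitian space over the field with four elements
-/

set_option autoImplicit false
set_option linter.unusedSectionVars false

namespace Cfsg.Agent.H854.UGeo

open Cfsg Cfsg.Agent.LieClassical.HermBasic Cfsg.Agent.ClassicalGeometry.UnitTransv
open Cfsg.Agent.SporadicStructure.UnitTwo Cfsg.Agent.H854.UForm
open scoped Matrix

variable {F : Type*} [Field F] [Fintype F] {n : ℕ} (hF : Fintype.card F = 2 ^ 2)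
include hF

theorem norm_cases (v : Fin n → F) : hermForm n F 2 v v = 0 ∨ hermForm n F 2 v v = 1 :=
  zero_or_one_of_fixed hF (herm_self_pow hF v)

theorem herm_ext_zero {a b : Fin n → F} (h : ∀ c : F, hermForm n F 2 (c • a + b) (c • a + b) = 0)
    : hermForm n F 2 a b = 0 := by
  obtain ⟨ω, hω⟩ := exists_omega hF
  have h2 := two_eq_zero hF
  have hb := h 0
  have h1 := h 1
  have h3 := h ω
  have h6 := h (ω ^ 2)
  rw [zero_smul, zero_add] at hb
  simp only [herm_add_left, herm_add_right hF, herm_smul_left, herm_smul_right,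
    herm_swap hF a b, hb] at h1 h3 h6
  have ha : hermForm n F 2 a a = 0 ∨ hermForm n F 2 a a = 1 := norm_cases hF a
  generalize hermForm n F 2 a a = p at *
  generalize hermForm n F 2 a b = s at *
  have h4 := pow_four hF s
  have h5 := pow_four hF p
  rcases ha with rfl | rfl <;> grind

/-- extension of orthonormal systems -/
theorem exists_norm_one {ι : Type*} [Fintype ι] [DecidableEq ι] (c : ι → Fin n → F)
    (hc : ∀ i j, hermForm n F 2 (c i) (c j) = if i = j then 1 else 0)
    (hk : Fintype.card ι < n) :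
    ∃ w : Fin n → F, hermForm n F 2 w w = 1 ∧ ∀ i, hermForm n F 2 w (c i) = 0 := by
  by_contra hno
  push Not at hno
  have hU : ∀ w : Fin n → F, (∀ i, hermForm n F 2 w (c i) = 0) → hermForm n F 2 w w = 0 := by
    intro w hw
    rcases norm_cases hF w with h | h
    · exact h
    · obtain ⟨i, hi⟩ := hno w h
      exact absurd (hw i) hi
  have hab : ∀ a b : Fin n → F, (∀ i, hermForm n F 2 a (c i) = 0) →
      (∀ i, hermForm n F 2 b (c i) = 0) → hermForm n F 2 a b = 0 := by
    intro a b ha hb
    apply herm_ext_zero hF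
    intro s
    apply hU
    intro i
    rw [herm_add_left, herm_smul_left, ha, hb, mul_zero, add_zero]
  have hproj : ∀ v : Fin n → F, ∀ j,
      hermForm n F 2 (v + ∑ i, hermForm n F 2 v (c i) • c i) (c j) = 0 := by
    intro v j
    rw [herm_add_left, herm_sum_left]
    have : ∑ i, hermForm n F 2 (hermForm n F 2 v (c i) • c i) (c j) = hermForm n F 2 v (c j) := by
      rw [Finset.sum_eq_single j]
      · rw [herm_smul_left, hc, if_pos rfl, mul_one]
      · intro i _ hij
        rw [herm_smul_left, hc, if_neg hij, mul_zero]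
      · intro h; exact absurd (Finset.mem_univ _) h
    rw [this]
    exact add_self hF _
  have hzero : ∀ a : Fin n → F, (∀ i, hermForm n F 2 a (c i) = 0) → a = 0 := by
    intro a ha
    apply herm_nondeg hF
    intro v
    have h1 := hab a _ ha (hproj v)
    rw [herm_add_right hF, herm_sum_right hF] at h1
    have : ∑ i, hermForm n F 2 a (hermForm n F 2 v (c i) • c i) = 0 := by
      apply Finset.sum_eq_zero
      intro i _
      rw [herm_smul_right, ha, mul_zero]
    rw [this, add_zero] at h1
    exact h1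
  have hspan : Submodule.span F (Set.range c) = ⊤ := by
    rw [eq_top_iff]
    intro v _
    have h1 := hzero _ (hproj v)
    have h2 : v = ∑ i, hermForm n F 2 v (c i) • c i := by
      have h3 : v = -∑ i, hermForm n F 2 v (c i) • c i := eq_neg_of_add_eq_zero_left h1
      rw [h3]
      funext i
      rw [Pi.neg_apply, neg_eq hF]
      rw [← h3]
    rw [h2]
    apply Submodule.sum_mem
    intro i _
    exact Submodule.smul_mem _ _ (Submodule.subset_span ⟨i, rfl⟩)
  have h1 := finrank_range_le_card (R := F) c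
  rw [Set.finrank, hspan, finrank_top, Module.finrank_fin_fun] at h1
  omega

theorem perp2 (hn : 3 ≤ n) {a b : Fin n → F} (ha : hermForm n F 2 a a = 1)
    (hb : hermForm n F 2 b b = 1) (hab : hermForm n F 2 a b = 0) :
    ∃ w : Fin n → F, hermForm n F 2 w w = 1 ∧ hermForm n F 2 w a = 0 ∧ hermForm n F 2 w b = 0 := by
  obtain ⟨w, h1, h2⟩ := exists_norm_one hF ![a, b] (by
    have hba := herm_eq_zero_swap hF hab
    intro i j
    fin_cases i <;> fin_cases j <;> simp [ha, hb, hab, hba]) (by simp; omega)
  exact ⟨w, h1, h2 0, h2 1⟩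

theorem perp3 (hn : 4 ≤ n) {a b c : Fin n → F} (ha : hermForm n F 2 a a = 1)
    (hb : hermForm n F 2 b b = 1) (hc : hermForm n F 2 c c = 1)
    (hab : hermForm n F 2 a b = 0) (hac : hermForm n F 2 a c = 0) (hbc : hermForm n F 2 b c = 0) :
    ∃ w : Fin n → F, hermForm n F 2 w w = 1 ∧ hermForm n F 2 w a = 0 ∧
      hermForm n F 2 w b = 0 ∧ hermForm n F 2 w c = 0 := by
  obtain ⟨w, h1, h2⟩ := exists_norm_one hF ![a, b, c] (by
    have hba := herm_eq_zero_swap hF hab
    have hca := herm_eq_zero_swap hF hac
    have hcb := herm_eq_zero_swap hF hbc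
    intro i j
    fin_cases i <;> fin_cases j <;> simp [ha, hb, hc, hab, hba, hac, hca, hbc, hcb]) (by simp; omega)
  exact ⟨w, h1, h2 0, h2 1, h2 2⟩

theorem perp4 (hn : 5 ≤ n) {a b c d : Fin n → F} (ha : hermForm n F 2 a a = 1)
    (hb : hermForm n F 2 b b = 1) (hc : hermForm n F 2 c c = 1) (hd : hermForm n F 2 d d = 1)
    (hab : hermForm n F 2 a b = 0) (hac : hermForm n F 2 a c = 0) (had : hermForm n F 2 a d = 0)
    (hbc : hermForm n F 2 b c = 0) (hbd : hermForm n F 2 b d = 0) (hcd : hermForm n F 2 c d = 0) :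
    ∃ w : Fin n → F, hermForm n F 2 w w = 1 ∧ hermForm n F 2 w a = 0 ∧
      hermForm n F 2 w b = 0 ∧ hermForm n F 2 w c = 0 ∧ hermForm n F 2 w d = 0 := by
  obtain ⟨w, h1, h2⟩ := exists_norm_one hF ![a, b, c, d] (by
    have hba := herm_eq_zero_swap hF hab
    have hca := herm_eq_zero_swap hF hac
    have hda := herm_eq_zero_swap hF had
    have hcb := herm_eq_zero_swap hF hbc
    have hdb := herm_eq_zero_swap hF hbd
    have hdc := herm_eq_zero_swap hF hcd
    intro i j
    fin_cases i <;> fin_cases j <;>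
      simp [ha, hb, hc, hd, hab, hba, hac, hca, had, hda, hbc, hcb, hbd, hdb, hcd, hdc])
      (by simp; omega)
  exact ⟨w, h1, h2 0, h2 1, h2 2, h2 3⟩

/-- moving a norm one vector to a basis vector -/
theorem move (hn : 3 ≤ n) (j : Fin n) (hj : 3 ≤ j.val) {u : Fin n → F}
    (hu : hermForm n F 2 u u = 1) :
    ∃ g : SU n F 2, act g u = e j ∧
      ∀ i : Fin n, 3 ≤ i.val → i ≠ j → hermForm n F 2 u (e i) = 0 → act g (e i) = e i := by
  obtain ⟨w, hw1, hw2, hw3⟩ := exists_perp hF hn u
  have hje : hermForm n F 2 (e j) (e j) = 1 := by rw [herm_e_right hF, e_self]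
  have hwj : hermForm n F 2 w (e j) = 0 := by rw [herm_e_right hF, hw2 j hj]
  obtain ⟨r1, _, h1, h1'⟩ := swap hF u w hu hw1 hw3
  obtain ⟨r2, _, h2, h2'⟩ := swap hF w (e j) hw1 hje hwj
  refine ⟨r2 * r1, by rw [act_mul, h1, h2], ?_⟩
  intro i hi hij hui
  have e1 : hermForm n F 2 (e i) w = 0 := by
    rw [herm_e_left hF, hw2 i hi, zero_pow two_ne_zero]
  rw [act_mul, h1' (e i) (herm_eq_zero_swap hF hui) e1, h2' (e i) e1]
  rw [herm_e_right hF, e_ne hij.symm]

/-- transitivity on orthonormal pairs -/
theorem pair_trans (hn : 5 ≤ n) {a b a' b' : Fin n → F} (ha : hermForm n F 2 a a = 1)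
    (hb : hermForm n F 2 b b = 1) (hab : hermForm n F 2 a b = 0)
    (ha' : hermForm n F 2 a' a' = 1) (hb' : hermForm n F 2 b' b' = 1)
    (hab' : hermForm n F 2 a' b' = 0) :
    ∃ g : SU n F 2, act g a = a' ∧ act g b = b' := by
  have key : ∀ a b : Fin n → F, hermForm n F 2 a a = 1 → hermForm n F 2 b b = 1 →
      hermForm n F 2 a b = 0 → ∃ g : SU n F 2, act g a = e ⟨4, by omega⟩ ∧
        act g b = e ⟨3, by omega⟩ := by
    intro a b ha hb hab
    obtain ⟨g1, h1, -⟩ := move hF (by omega) ⟨4, by omega⟩ (by simp) ha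
    have hb1 : hermForm n F 2 (act g1 b) (act g1 b) = 1 := by rw [herm_act, hb]
    obtain ⟨g2, h2, h3⟩ := move hF (by omega) ⟨3, by omega⟩ (by simp) hb1
    refine ⟨g2 * g1, ?_, by rw [act_mul, h2]⟩
    rw [act_mul, h1, h3 _ (by simp) (by simp)]
    rw [← h1, herm_act]
    exact herm_eq_zero_swap hF hab
  obtain ⟨g, h1, h2⟩ := key a b ha hb hab
  obtain ⟨g', h1', h2'⟩ := key a' b' ha' hb' hab'
  refine ⟨g'⁻¹ * g, ?_, ?_⟩
  · rw [act_mul, h1, ← h1', act_inv_act]
  · rw [act_mul, h2, ← h2', act_inv_act]

/-- isotropic vectors are sums of orthonormal pairs -/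
theorem split_iso {v : Fin n → F} (hv : hermForm n F 2 v v = 0) (hv0 : v ≠ 0) :
    ∃ a b : Fin n → F, hermForm n F 2 a a = 1 ∧ hermForm n F 2 b b = 1 ∧
      hermForm n F 2 a b = 0 ∧ v = a + b := by
  obtain ⟨ω, hω⟩ := exists_omega hF
  have h2 := two_eq_zero hF
  obtain ⟨y, hy⟩ := exists_herm_ne_zero hF hv0
  have hy' : hermForm n F 2 y v ≠ 0 := fun h => hy (herm_eq_zero_swap hF h)
  obtain ⟨z, hz⟩ : ∃ z : Fin n → F, hermForm n F 2 z v = 1 := by
    refine ⟨(hermForm n F 2 y v)⁻¹ • y, ?_⟩
    rw [herm_smul_left, inv_mul_cancel₀ hy']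
  have hvz : hermForm n F 2 v z = 1 := by rw [herm_swap hF z v, hz, one_pow]
  obtain ⟨a, ha, hav⟩ : ∃ a : Fin n → F, hermForm n F 2 a a = 1 ∧ hermForm n F 2 a v = 1 := by
    rcases norm_cases hF z with h | h
    · refine ⟨z + ω • v, ?_, ?_⟩
      · rw [herm_add_left, herm_add_right hF, herm_add_right hF, herm_smul_left, herm_smul_right,
          herm_smul_left, herm_smul_right, h, hz, hv, hvz]
        grind
      · rw [herm_add_left, herm_smul_left, hz, hv, mul_zero, add_zero]
    · exact ⟨z, h, hz⟩
  have hva : hermForm n F 2 v a = 1 := by rw [herm_swap hF a v, hav, one_pow]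
  refine ⟨a, a + v, ha, ?_, ?_, ?_⟩
  · rw [herm_add_left, herm_add_right hF, herm_add_right hF, ha, hav, hva, hv]
    grind
  · rw [herm_add_right hF, ha, hav]
    exact add_self hF 1
  · rw [← add_assoc, vadd_self hF, zero_add]

/-- transitivity on nonzero isotropic vectors -/
theorem iso_trans (hn : 5 ≤ n) {v w : Fin n → F} (hv : hermForm n F 2 v v = 0) (hv0 : v ≠ 0)
    (hw : hermForm n F 2 w w = 0) (hw0 : w ≠ 0) : ∃ g : SU n F 2, act g v = w := by
  obtain ⟨a, b, ha, hb, hab, rfl⟩ := split_iso hF hv hv0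
  obtain ⟨a', b', ha', hb', hab', rfl⟩ := split_iso hF hw hw0
  obtain ⟨g, h1, h2⟩ := pair_trans hF hn ha hb hab ha' hb' hab'
  exact ⟨g, by rw [act_add, h1, h2]⟩

end Cfsg.Agent.H854.UGeo
end

-- part: H854/UGeo2
section
/-!
# Involutions, generation and orbits in the unitary groups over the field with four elements
-/

set_option autoImplicit false
set_option linter.unusedSectionVars false

namespace Cfsg.Agent.H854.UGeo

open Cfsg Cfsg.Agent.LieClassical.HermBasic Cfsg.Agent.ClassicalGeometry.UnitTransv
open Cfsg.Agent.SporadicStructure.UnitTwo Cfsg.Agent.H854.UForm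
open scoped Matrix

variable {F : Type*} [Field F] [Fintype F] {n : ℕ} (hF : Fintype.card F = 2 ^ 2)
include hF

theorem iso_add {a b : Fin n → F} (ha : hermForm n F 2 a a = 1) (hb : hermForm n F 2 b b = 1)
    (hab : hermForm n F 2 a b = 0) : hermForm n F 2 (a + b) (a + b) = 0 := by
  rw [herm_add_left, herm_add_right hF, herm_add_right hF, ha, hb, hab,
    herm_eq_zero_swap hF hab]
  linear_combination two_eq_zero hF

theorem swap_left {a b : Fin n → F} (ha : hermForm n F 2 a a = 1)
    (hab : hermForm n F 2 a b = 0) (h0 : hermForm n F 2 (a + b) (a + b) = 0) :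
    act (T hF _ h0) a = b := by
  rw [act_T, herm_add_right hF, ha, hab, add_zero, one_smul, ← add_assoc, vadd_self hF, zero_add]

theorem swap_right {a b : Fin n → F} (hb : hermForm n F 2 b b = 1)
    (hab : hermForm n F 2 a b = 0) (h0 : hermForm n F 2 (a + b) (a + b) = 0) :
    act (T hF _ h0) b = a := by
  rw [act_T, herm_add_right hF, hb, herm_eq_zero_swap hF hab, zero_add, one_smul, add_comm b,
    add_assoc, vadd_self hF, add_zero]

theorem swap_perp {a b x : Fin n → F} (h1 : hermForm n F 2 x a = 0)
    (h2 : hermForm n F 2 x b = 0) (h0 : hermForm n F 2 (a + b) (a + b) = 0) :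
    act (T hF _ h0) x = x := by
  apply act_T_of_perp
  rw [herm_add_right hF, h1, h2, add_zero]

theorem norm_smul {c : F} (hc : c ^ 3 = 1) {a : Fin n → F} (ha : hermForm n F 2 a a = 1) :
    hermForm n F 2 (c • a) (c • a) = 1 := by
  rw [herm_smul_left, herm_smul_right, ha]
  linear_combination hc

theorem ne_zero_of_norm {a : Fin n → F} (ha : hermForm n F 2 a a = 1) : a ≠ 0 := by
  rintro rfl
  rw [herm_zero_right hF] at ha
  exact zero_ne_one ha

/-- hyperbolic partner data of an involution -/
theorem pairing {ω : F} (hω : ω ^ 2 + ω + 1 = 0) {x s : Fin n → F}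
    (hx : hermForm n F 2 x s = 1) (hs : hermForm n F 2 s s = 0) :
    ∃ c : F, hermForm n F 2 (x + c • s) (x + c • s) = 1 ∧
      hermForm n F 2 (x + c • s + s) (x + c • s + s) = 1 ∧
      hermForm n F 2 (x + c • s) (x + c • s + s) = 0 := by
  have hsx : hermForm n F 2 s x = 1 := by rw [herm_swap hF x s, hx, one_pow]
  have h2 := two_eq_zero hF
  have hω0 : ω ≠ 0 := by rintro rfl; simp at hω
  have hω3 := pow_three hF hω0
  rcases norm_cases hF x with h | h
  · refine ⟨ω, ?_, ?_, ?_⟩ <;>
    · simp only [herm_add_left, herm_add_right hF, herm_smul_left, herm_smul_right, hx, hs, hsx, h]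
      grind
  · refine ⟨0, ?_, ?_, ?_⟩ <;>
    · simp only [herm_add_left, herm_add_right hF, herm_smul_left, herm_smul_right, hx, hs, hsx, h]
      grind

/-- involutions commuting or braiding with all their conjugates are transvections -/
theorem involution_T (hn : 5 ≤ n) (t : SU n F 2) (ht : t * t = 1) (ht1 : t ≠ 1)
    (hbr : ∀ g : SU n F 2, t * (g * t * g⁻¹) = (g * t * g⁻¹) * t ∨
      t * (g * t * g⁻¹) * t = (g * t * g⁻¹) * t * (g * t * g⁻¹)) :
    ∃ (v : Fin n → F) (hv : hermForm n F 2 v v = 0), v ≠ 0 ∧ t = T hF v hv := by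
  obtain ⟨ω, hω⟩ := exists_omega hF
  have h2 := two_eq_zero hF
  have hω0 : ω ≠ 0 := by rintro rfl; simp at hω
  have hω3 := pow_three hF hω0
  obtain ⟨x, hx, hs⟩ := exists_vec hF t ht ht1
  obtain ⟨r1, r2, r3⟩ := reduce hF t ht hx hs
  have htx : act t x = x + (act t x + x) := by
    rw [add_comm (act t x), ← add_assoc, vadd_self hF, zero_add]
  have hts : act t (act t x + x) = act t x + x := by
    rw [act_add, ← act_mul, ht, act_one, add_comm]
  have hs0 : act t x + x ≠ 0 := by
    intro h
    rw [h, herm_zero_right hF] at hx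
    exact zero_ne_one hx
  obtain ⟨s, hsd⟩ : ∃ s, s = act t x + x := ⟨_, rfl⟩
  revert htx hts hs0 r1 r2 r3 hx
  revert hs
  rw [← hsd]
  intro hs hx r1 r2 r3 htx hts hs0
  refine ⟨s, hs, hs0, ?_⟩
  by_cases h1 : T hF s hs * t = 1
  · have := eq_inv_of_mul_eq_one_right h1
    rw [this, T_inv]
  · exfalso
    obtain ⟨t1, ht1d⟩ : ∃ t1, t1 = T hF s hs * t := ⟨_, rfl⟩
    rw [← ht1d] at r1 r2 r3 h1
    have htt1 : t = T hF s hs * t1 := by rw [ht1d, ← mul_assoc, T_mul_self, one_mul]
    obtain ⟨y, hy, hs'⟩ := exists_vec hF _ r1 h1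
    have e1 : hermForm n F 2 (act t1 y + y) x = 0 := by
      rw [sym hF _ r1, r2, vadd_self hF, herm_zero_right hF]
    have e2 : hermForm n F 2 (act t1 y + y) s = 0 := by
      rw [sym hF _ r1, r3, vadd_self hF, herm_zero_right hF]
    have ht1y : act t1 y = y + (act t1 y + y) := by
      rw [add_comm (act t1 y), ← add_assoc, vadd_self hF, zero_add]
    have ht1s' : act t1 (act t1 y + y) = act t1 y + y := by
      rw [act_add, ← act_mul, r1, act_one, add_comm]
    obtain ⟨s', hs'd⟩ : ∃ s', s' = act t1 y + y := ⟨_, rfl⟩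
    rw [← hs'd] at hy hs' e1 e2 ht1y ht1s'
    have hsx : hermForm n F 2 s x = 1 := by rw [herm_swap hF x s, hx, one_pow]
    -- adjust y
    obtain ⟨α, hα⟩ : ∃ α, α = hermForm n F 2 y s := ⟨_, rfl⟩
    obtain ⟨β, hβ⟩ : ∃ β, β = hermForm n F 2 (y + α • x) x := ⟨_, rfl⟩
    obtain ⟨z, hz⟩ : ∃ z, z = y + α • x + β • s := ⟨_, rfl⟩
    have z1 : hermForm n F 2 z s = 0 := by
      rw [hz, herm_add_left, herm_add_left, herm_smul_left, herm_smul_left, hs, hx, ← hα]
      linear_combination α * h2
    have z2 : hermForm n F 2 z x = 0 := by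
      rw [hz, herm_add_left, ← hβ, herm_smul_left, hsx]
      linear_combination β * h2
    have z3 : hermForm n F 2 z s' = 1 := by
      rw [hz, herm_add_left, herm_add_left, herm_smul_left, herm_smul_left, hy,
        herm_eq_zero_swap hF e1, herm_eq_zero_swap hF e2, mul_zero, mul_zero, add_zero, add_zero]
    have z4 : act t1 z = z + s' := by
      rw [hz, act_add, act_add, act_smul, act_smul, r2, r3, ht1y]
      abel
    have z5 : act t z = z + s' := by
      rw [htt1, act_mul, z4]
      apply act_T_of_perp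
      rw [herm_add_left, z1, e2, add_zero]
    have z6 : act t s' = s' := by
      rw [htt1, act_mul, ht1s']
      exact act_T_of_perp hF _ hs _ e2
    -- orthonormal frames
    obtain ⟨c, c1, c2, c3⟩ := pairing hF hω hx hs
    obtain ⟨c', c1', c2', c3'⟩ := pairing hF hω z3 hs'
    have hta : act t (x + c • s) = x + c • s + s := by
      rw [act_add, act_smul, hts, htx]; abel
    have hta' : act t (z + c' • s') = z + c' • s' + s' := by
      rw [act_add, act_smul, z6, z5]; abel
    have htb : act t (x + c • s + s) = x + c • s := by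
      rw [← hta, ← act_mul, ht, act_one]
    have htb' : act t (z + c' • s' + s') = z + c' • s' := by
      rw [← hta', ← act_mul, ht, act_one]
    have o1 : hermForm n F 2 x z = 0 := herm_eq_zero_swap hF z2
    have o2 : hermForm n F 2 s z = 0 := herm_eq_zero_swap hF z1
    have o3 : hermForm n F 2 x s' = 0 := herm_eq_zero_swap hF e1
    have o4 : hermForm n F 2 s s' = 0 := herm_eq_zero_swap hF e2
    have k1 : hermForm n F 2 (x + c • s) (z + c' • s') = 0 := by
      simp only [herm_add_left, herm_add_right hF, herm_smul_left, herm_smul_right, o1, o2, o3, o4,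
        mul_zero, add_zero]
    have k2 : hermForm n F 2 (x + c • s) (z + c' • s' + s') = 0 := by
      simp only [herm_add_left, herm_add_right hF, herm_smul_left, herm_smul_right, o1, o2, o3, o4,
        mul_zero, add_zero]
    have k3 : hermForm n F 2 (x + c • s + s) (z + c' • s') = 0 := by
      simp only [herm_add_left, herm_add_right hF, herm_smul_left, herm_smul_right, o1, o2, o3, o4,
        mul_zero, add_zero]
    have k4 : hermForm n F 2 (x + c • s + s) (z + c' • s' + s') = 0 := by
      simp only [herm_add_left, herm_add_right hF, herm_smul_left, herm_smul_right, o1, o2, o3, o4,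
        mul_zero, add_zero]
    generalize x + c • s + s = b at *
    generalize x + c • s = a at *
    generalize z + c' • s' + s' = b' at *
    generalize z + c' • s' = a' at *
    -- now `a, b, a', b'` orthonormal, `t` swaps `a, b` and `a', b'`
    obtain ⟨w, hw, wa, wb, wa', wb'⟩ := perp4 hF hn c1 c2 c1' c2' c3 k1 k2 k3 k4 c3'
    have d1 := iso_add hF c2' hw (herm_eq_zero_swap hF wb')
    have d2 : hermForm n F 2 (b' + ω • w) (b' + ω • w) = 0 :=
      iso_add hF c2' (norm_smul hF hω3 hw) (by rw [herm_smul_right, herm_eq_zero_swap hF wb', mul_zero])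
    have d3 := iso_add hF c1 c2 c3
    have d4 := iso_add hF c2 c1' k3
    obtain ⟨g, hg⟩ : ∃ g : SU n F 2, g = T hF _ d3 * T hF _ d4 * (T hF _ d1 * T hF _ d2) := ⟨_, rfl⟩
    have aw := herm_eq_zero_swap hF wa
    have bw := herm_eq_zero_swap hF wb
    have a'w := herm_eq_zero_swap hF wa'
    have b'w := herm_eq_zero_swap hF wb'
    have ba := herm_eq_zero_swap hF c3
    have b'a' := herm_eq_zero_swap hF c3'
    have k1' := herm_eq_zero_swap hF k1
    have k2' := herm_eq_zero_swap hF k2
    have k3' := herm_eq_zero_swap hF k3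
    have k4' := herm_eq_zero_swap hF k4
    have sm : ∀ q : Fin n → F, hermForm n F 2 q w = 0 → hermForm n F 2 q (ω • w) = 0 := by
      intro q hq; rw [herm_smul_right, hq, mul_zero]
    have ga : act g a = b := by
      rw [hg, act_mul, act_mul, act_mul, swap_perp hF k2 (sm _ aw) d2, swap_perp hF k2 aw d1,
        swap_perp hF c3 k1 d4, swap_left hF c1 c3 d3]
    have gb : act g b = a' := by
      rw [hg, act_mul, act_mul, act_mul, swap_perp hF k4 (sm _ bw) d2, swap_perp hF k4 bw d1,
        swap_left hF c2 k3 d4, swap_perp hF k1' k3' d3]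
    have ga' : act g a' = a := by
      rw [hg, act_mul, act_mul, act_mul, swap_perp hF c3' (sm _ a'w) d2, swap_perp hF c3' a'w d1,
        swap_right hF c1' k3 d4, swap_right hF c2 c3 d3]
    have gb' : act g b' = ω • b' := by
      rw [hg, act_mul, act_mul, act_mul, swap_left hF c2' (sm _ b'w) d2, act_smul,
        swap_right hF hw b'w d1, act_smul, act_smul, swap_perp hF k4' b'a' d4,
        swap_perp hF k2' k4' d3]
    obtain ⟨t', ht'⟩ : ∃ t', t' = g * t * g⁻¹ := ⟨_, rfl⟩
    have hconj : ∀ q, act t' (act g q) = act g (act t q) := by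
      intro q
      rw [ht', ← act_mul, ← act_mul]; congr 1; group
    have t'b : act t' b = a' := by rw [← ga, hconj, hta, gb]
    have t'a' : act t' a' = b := by rw [← gb, hconj, htb, ga]
    have t'a : act t' a = ω • b' := by rw [← ga', hconj, hta', gb']
    have hcon := hbr g
    rw [← ht'] at hcon
    rcases hcon with hcon | hcon
    · have h3 := congrArg (fun k => act k a) hcon
      simp only [act_mul] at h3
      rw [t'a, act_smul, htb', hta, t'b] at h3
      have h4 := congrArg (fun q => hermForm n F 2 q a') h3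
      simp only [herm_smul_left, c1'] at h4
      grind
    · have h3 := congrArg (fun k => act k a) hcon
      simp only [act_mul] at h3
      rw [hta, t'b, hta', t'a, act_smul, htb', act_smul, t'a'] at h3
      have h4 := congrArg (fun q => hermForm n F 2 q b') h3
      simp only [herm_smul_left, c2', k4, mul_zero] at h4
      exact one_ne_zero h4

/-- a common orthogonal isotropic vector -/
theorem exists_common (hn : 4 ≤ n) {u v : Fin n → F} (hu : hermForm n F 2 u u = 0)
    (hv : hermForm n F 2 v v = 0) (huv : hermForm n F 2 u v ≠ 0) :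
    ∃ p : Fin n → F, p ≠ 0 ∧ hermForm n F 2 p p = 0 ∧ hermForm n F 2 p u = 0 ∧
      hermForm n F 2 p v = 0 := by
  obtain ⟨ω, hω⟩ := exists_omega hF
  have h2 := two_eq_zero hF
  have hω0 : ω ≠ 0 := by rintro rfl; simp at hω
  have hω3 := pow_three hF hω0
  obtain ⟨s, hs⟩ : ∃ s, s = hermForm n F 2 u v := ⟨_, rfl⟩
  have hs3 : s ^ 3 = 1 := by rw [hs]; exact pow_three hF huv
  have hs0 : s ≠ 0 := by rw [hs]; exact huv
  have hvu : hermForm n F 2 v u = s ^ 2 := by rw [hs]; exact herm_swap hF u v
  have a1 : hermForm n F 2 (u + (ω * s) • v) (u + (ω * s) • v) = 1 := by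
    simp only [herm_add_left, herm_add_right hF, herm_smul_left, herm_smul_right, hu, hv, ← hs, hvu]
    grind
  have a2 : hermForm n F 2 (u + (ω ^ 2 * s) • v) (u + (ω ^ 2 * s) • v) = 1 := by
    simp only [herm_add_left, herm_add_right hF, herm_smul_left, herm_smul_right, hu, hv, ← hs, hvu]
    grind
  have a3 : hermForm n F 2 (u + (ω * s) • v) (u + (ω ^ 2 * s) • v) = 0 := by
    simp only [herm_add_left, herm_add_right hF, herm_smul_left, herm_smul_right, hu, hv, ← hs, hvu]
    grind
  obtain ⟨c, hc, hca, hcb⟩ := perp2 hF (by omega) a1 a2 a3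
  obtain ⟨d, hd, hda, hdb, hdc⟩ := perp3 hF hn a1 a2 hc a3 (herm_eq_zero_swap hF hca)
    (herm_eq_zero_swap hF hcb)
  have key : ∀ q : Fin n → F, hermForm n F 2 q (u + (ω * s) • v) = 0 →
      hermForm n F 2 q (u + (ω ^ 2 * s) • v) = 0 →
      hermForm n F 2 q u = 0 ∧ hermForm n F 2 q v = 0 := by
    intro q h3 h4
    rw [herm_add_right hF, herm_smul_right] at h3 h4
    have h5 : hermForm n F 2 q v = 0 := by
      have h6 : (s ^ 2) * hermForm n F 2 q v = 0 := by grind
      rcases mul_eq_zero.1 h6 with h7 | h7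
      · exact absurd h7 (pow_ne_zero 2 hs0)
      · exact h7
    rw [h5] at h3
    exact ⟨by simpa using h3, h5⟩
  obtain ⟨cu, cv⟩ := key c hca hcb
  obtain ⟨du, dv⟩ := key d hda hdb
  refine ⟨d + c, ?_, iso_add hF hd hc hdc, ?_, ?_⟩
  · intro h
    have h3 : hermForm n F 2 (d + c) c = 0 := by rw [h, herm_zero_left]
    rw [herm_add_left, hdc, hc, zero_add] at h3
    exact one_ne_zero h3
  · rw [herm_add_left, cu, du, add_zero]
  · rw [herm_add_left, cv, dv, add_zero]

/-- generation by two opposite stabilisers -/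
theorem gen_two (hn : 5 ≤ n) {u v : Fin n → F} (hu : hermForm n F 2 u u = 0)
    (hv : hermForm n F 2 v v = 0) (huv : hermForm n F 2 u v = 1) (L : Subgroup (SU n F 2))
    (hLu : ∀ (x : Fin n → F) (hx : hermForm n F 2 x x = 0), hermForm n F 2 x u = 0 →
      T hF x hx ∈ L)
    (hLv : ∀ (x : Fin n → F) (hx : hermForm n F 2 x x = 0), hermForm n F 2 x v = 0 →
      T hF x hx ∈ L) (x : Fin n → F) (hx : hermForm n F 2 x x = 0) : T hF x hx ∈ L := by
  obtain ⟨ω, hω⟩ := exists_omega hF
  have h2 := two_eq_zero hF
  have hω0 : ω ≠ 0 := by rintro rfl; simp at hω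
  have hω3 := pow_three hF hω0
  have hvu : hermForm n F 2 v u = 1 := by rw [herm_swap hF u v, huv, one_pow]
  by_cases hα : hermForm n F 2 x v = 0
  · exact hLv x hx hα
  by_cases hβ : hermForm n F 2 x u = 0
  · exact hLu x hx hβ
  -- find p
  obtain ⟨p, hp, hpu, hpv, hxp⟩ : ∃ p : Fin n → F, hermForm n F 2 p p = 0 ∧
      hermForm n F 2 p u = 0 ∧ hermForm n F 2 p v = 0 ∧
      hermForm n F 2 x p = hermForm n F 2 x v + hermForm n F 2 x u := by
    obtain ⟨c, hc⟩ : ∃ c, c = hermForm n F 2 x v + hermForm n F 2 x u := ⟨_, rfl⟩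
    rw [← hc]
    by_cases hc0 : c = 0
    · refine ⟨0, ?_, ?_, ?_, ?_⟩
      · exact herm_zero_left _
      · exact herm_zero_left _
      · exact herm_zero_left _
      · rw [herm_zero_right hF, hc0]
    · obtain ⟨m, hm⟩ : ∃ m, m = x + hermForm n F 2 x v • u + hermForm n F 2 x u • v := ⟨_, rfl⟩
      have hmu : hermForm n F 2 m u = 0 := by
        rw [hm, herm_add_left, herm_add_left, herm_smul_left, herm_smul_left, hu, hvu]
        linear_combination hermForm n F 2 x u * h2
      have hmv : hermForm n F 2 m v = 0 := by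
        rw [hm, herm_add_left, herm_add_left, herm_smul_left, herm_smul_left, hv, huv]
        linear_combination hermForm n F 2 x v * h2
      have hxq : ∀ q : Fin n → F, hermForm n F 2 q u = 0 → hermForm n F 2 q v = 0 →
          hermForm n F 2 x q = hermForm n F 2 m q := by
        intro q h3 h4
        rw [hm, herm_add_left, herm_add_left, herm_smul_left, herm_smul_left,
          herm_eq_zero_swap hF h3, herm_eq_zero_swap hF h4, mul_zero, mul_zero, add_zero, add_zero]
      have hm0 : m ≠ 0 := by
        intro h0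
        have h3 : hermForm n F 2 x x = hermForm n F 2 x v * hermForm n F 2 x u * c := by
          have h4 : hermForm n F 2 m x = 0 := by rw [h0, herm_zero_left]
          rw [hm, herm_add_left, herm_add_left, herm_smul_left, herm_smul_left, hx,
            herm_swap hF x u, herm_swap hF x v] at h4
          rw [hx, hc]
          grind
        rw [hx] at h3
        exact mul_ne_zero (mul_ne_zero hα hβ) hc0 h3.symm
      obtain ⟨z, hz⟩ := exists_herm_ne_zero hF hm0
      have hmz : hermForm n F 2 m z ≠ 0 := by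
        first
          | exact hz
          | exact fun h => hz (herm_eq_zero_swap hF h)
      obtain ⟨z', hz'⟩ : ∃ z', z' = z + hermForm n F 2 z v • u + hermForm n F 2 z u • v := ⟨_, rfl⟩
      have z'u : hermForm n F 2 z' u = 0 := by
        rw [hz', herm_add_left, herm_add_left, herm_smul_left, herm_smul_left, hu, hvu]
        linear_combination hermForm n F 2 z u * h2
      have z'v : hermForm n F 2 z' v = 0 := by
        rw [hz', herm_add_left, herm_add_left, herm_smul_left, herm_smul_left, hv, huv]
        linear_combination hermForm n F 2 z v * h2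
      have mz' : hermForm n F 2 m z' ≠ 0 := by
        rw [hz', herm_add_right hF, herm_add_right hF, herm_smul_right, herm_smul_right, hmu, hmv,
          mul_zero, mul_zero, add_zero, add_zero]
        exact hmz
      obtain ⟨p0, hp0, p0u, p0v, mp0⟩ : ∃ p0 : Fin n → F, hermForm n F 2 p0 p0 = 0 ∧
          hermForm n F 2 p0 u = 0 ∧ hermForm n F 2 p0 v = 0 ∧ hermForm n F 2 m p0 ≠ 0 := by
        rcases norm_cases hF z' with h3 | h3
        · exact ⟨z', h3, z'u, z'v, mz'⟩
        · have a1 : hermForm n F 2 (u + ω • v) (u + ω • v) = 1 := by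
            simp only [herm_add_left, herm_add_right hF, herm_smul_left, herm_smul_right, hu, hv,
              huv, hvu]
            grind
          have a2 : hermForm n F 2 (u + ω ^ 2 • v) (u + ω ^ 2 • v) = 1 := by
            simp only [herm_add_left, herm_add_right hF, herm_smul_left, herm_smul_right, hu, hv,
              huv, hvu]
            grind
          have a3 : hermForm n F 2 (u + ω • v) (u + ω ^ 2 • v) = 0 := by
            simp only [herm_add_left, herm_add_right hF, herm_smul_left, herm_smul_right, hu, hv,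
              huv, hvu]
            grind
          have a4 : hermForm n F 2 (u + ω • v) z' = 0 := by
            rw [herm_add_left, herm_smul_left, herm_eq_zero_swap hF z'u,
              herm_eq_zero_swap hF z'v, mul_zero, add_zero]
          have a5 : hermForm n F 2 (u + ω ^ 2 • v) z' = 0 := by
            rw [herm_add_left, herm_smul_left, herm_eq_zero_swap hF z'u,
              herm_eq_zero_swap hF z'v, mul_zero, add_zero]
          obtain ⟨y, hy, y1, y2, y3⟩ := perp3 hF (by omega) a1 a2 h3 a3 a4 a5
          rw [herm_add_right hF, herm_smul_right] at y1 y2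
          have yv : hermForm n F 2 y v = 0 := by grind
          have yu : hermForm n F 2 y u = 0 := by rw [yv] at y1; simpa using y1
          by_cases h4 : hermForm n F 2 m (z' + y) = 0
          · refine ⟨z' + ω • y, ?_, ?_, ?_, ?_⟩
            · apply iso_add hF h3 (norm_smul hF hω3 hy)
              rw [herm_smul_right, herm_eq_zero_swap hF y3, mul_zero]
            · rw [herm_add_left, herm_smul_left, z'u, yu, mul_zero, add_zero]
            · rw [herm_add_left, herm_smul_left, z'v, yv, mul_zero, add_zero]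
            · intro h5
              rw [herm_add_right hF] at h4
              rw [herm_add_right hF, herm_smul_right] at h5
              apply mz'
              grind
          · refine ⟨z' + y, ?_, ?_, ?_, h4⟩
            · exact iso_add hF h3 hy (herm_eq_zero_swap hF y3)
            · rw [herm_add_left, z'u, yu, add_zero]
            · rw [herm_add_left, z'v, yv, add_zero]
      have s3 := pow_three hF mp0
      refine ⟨(c * (hermForm n F 2 m p0)⁻¹) ^ 2 • p0, ?_, ?_, ?_, ?_⟩
      · rw [herm_smul_left, herm_smul_right, hp0, mul_zero, mul_zero]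
      · rw [herm_smul_left, p0u, mul_zero]
      · rw [herm_smul_left, p0v, mul_zero]
      · rw [herm_smul_right, hxq p0 p0u p0v]
        have c4 := pow_four hF (c * (hermForm n F 2 m p0)⁻¹)
        have : ((c * (hermForm n F 2 m p0)⁻¹) ^ 2) ^ 2 = c * (hermForm n F 2 m p0)⁻¹ := by
          rw [← pow_mul]; exact c4
        rw [this, mul_assoc, inv_mul_cancel₀ mp0, mul_one]
  have hup := herm_eq_zero_swap hF hpu
  have hy : hermForm n F 2 (u + p) (u + p) = 0 := by
    rw [herm_add_left, herm_add_right hF, herm_add_right hF, hu, hp, hpu, hup]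
    simp
  have hTy : T hF _ hy ∈ L := by
    apply hLu
    rw [herm_add_left, hu, hpu, add_zero]
  have hx' : hermForm n F 2 (act (T hF _ hy) x) (act (T hF _ hy) x) = 0 := by rw [herm_act, hx]
  have hx'v : hermForm n F 2 (act (T hF _ hy) x) v = 0 := by
    rw [act_T, herm_add_left, herm_smul_left, herm_add_right hF, herm_add_left, huv, hpv, hxp]
    linear_combination (hermForm n F 2 x v + hermForm n F 2 x u) * h2
  have h3 := conj_T hF (T hF _ hy) _ hx' (by rw [herm_act]; exact hx')
  have h4 : act (T hF _ hy) (act (T hF _ hy) x) = x := by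
    rw [← act_mul, T_mul_self, act_one]
  have h5 := T_congr hF h4 (by rw [herm_act]; exact hx') hx
  rw [← h5, ← h3]
  exact L.mul_mem (L.mul_mem hTy (hLv _ hx' hx'v)) (L.inv_mem hTy)

/-- the five transvections with centres on a totally isotropic line have product one -/
theorem five {ω : F} (hω : ω ^ 2 + ω + 1 = 0) {r s : Fin n → F} (hr : hermForm n F 2 r r = 0)
    (hs : hermForm n F 2 s s = 0) (hrs : hermForm n F 2 r s = 0)
    (h1 : hermForm n F 2 (s + r) (s + r) = 0)
    (h2 : hermForm n F 2 (s + ω • r) (s + ω • r) = 0)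
    (h3 : hermForm n F 2 (s + ω ^ 2 • r) (s + ω ^ 2 • r) = 0) :
    T hF r hr * T hF s hs * T hF _ h1 * T hF _ h2 * T hF _ h3 = 1 := by
  have hsr := herm_eq_zero_swap hF hrs
  have h20 := two_eq_zero hF
  apply ext_act
  intro x
  rw [act_mul, act_mul, act_mul, act_mul, act_one]
  simp only [act_T, herm_add_left, herm_add_right hF, herm_smul_left, herm_smul_right, hr, hs, hrs,
    hsr, mul_zero, add_zero]
  funext i
  simp only [Pi.add_apply, Pi.smul_apply, smul_eq_mul]
  grind

end Cfsg.Agent.H854.UGeo
end
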